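import Groth.Agent.FunMor.K350.KerAff

/-!
# Comparison of `M ↦ q_* (p^* M ⊗ j_* E)` with `M ↦ (j ≫ q)_* (pU^* (M|_U) ⊗ E)`

`u : U ⟶ X` an open immersion, `j : O ⟶ P` affine, `j ≫ p = pU ≫ u`.
-/

set_option autoImplicit false
universe u
open CategoryTheory CategoryTheory.Limits AlgebraicGeometry MonoidalCategory

namespace K350.Ker

open Groth.Agent.FormalB.ModPow K350.WattsQ K350.Desc Groth.Agent.Dcoh.ClosedProj
open Groth.Agent.Models2.QCohPush
open scoped Groth.Agent.Dcoh.MonCat

section Proj

variable {O P : Scheme.{u}} (j : O ⟶ P)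

/-- `j_* G ⊗ E ⟶ j_* (G ⊗ j^* E)`. -/
noncomputable def projT (G : O.Modules) (E : P.Modules) :
    ((Scheme.Modules.pushforward j).obj G ⊗ E : P.Modules) ⟶
      (Scheme.Modules.pushforward j).obj (G ⊗ (Scheme.Modules.pullback j).obj E : O.Modules) :=
  proj j G E

theorem projT_nat_left {G G' : O.Modules} (φ : G ⟶ G') (E : P.Modules) :
    (Scheme.Modules.pushforward j).map φ ▷ E ≫ projT j G' E =
      projT j G E ≫ (Scheme.Modules.pushforward j).map (φ ▷ (Scheme.Modules.pullback j).obj E) :=
  proj_naturality_left j φ E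

theorem projT_nat_right (G : O.Modules) {E E' : P.Modules} (φ : E ⟶ E') :
    (Scheme.Modules.pushforward j).obj G ◁ φ ≫ projT j G E' =
      projT j G E ≫ (Scheme.Modules.pushforward j).map (G ◁ (Scheme.Modules.pullback j).map φ) :=
  proj_naturality_right j G φ

theorem isIso_projT [IsAffineHom j] (M : P.Modules) (E : O.Modules) (hM : Coh.IsQCoh M)
    (hE : Coh.IsQCoh E) : IsIso (projT j E M) := K355.isIso_proj_affine j E M hE hM

/-- `M ⊗ j_* E ⟶ j_* (j^* M ⊗ E)`. -/
noncomputable def projL (M : P.Modules) (E : O.Modules) :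
    (M ⊗ (Scheme.Modules.pushforward j).obj E : P.Modules) ⟶
      (Scheme.Modules.pushforward j).obj ((Scheme.Modules.pullback j).obj M ⊗ E : O.Modules) :=
  (β_ M ((Scheme.Modules.pushforward j).obj E)).hom ≫ projT j E M ≫
    (Scheme.Modules.pushforward j).map (β_ E ((Scheme.Modules.pullback j).obj M)).hom

theorem projL_nat_left {M N : P.Modules} (f : M ⟶ N) (E : O.Modules) :
    f ▷ (Scheme.Modules.pushforward j).obj E ≫ projL j N E =
      projL j M E ≫ (Scheme.Modules.pushforward j).map ((Scheme.Modules.pullback j).map f ▷ E) := by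
  simp only [projL, Category.assoc]
  rw [BraidedCategory.braiding_naturality_left_assoc, reassoc_of% (projT_nat_right j E f),
    ← Functor.map_comp, ← Functor.map_comp, BraidedCategory.braiding_naturality_right]

theorem projL_nat_right (M : P.Modules) {E E' : O.Modules} (φ : E ⟶ E') :
    M ◁ (Scheme.Modules.pushforward j).map φ ≫ projL j M E' =
      projL j M E ≫ (Scheme.Modules.pushforward j).map ((Scheme.Modules.pullback j).obj M ◁ φ) := by
  simp only [projL, Category.assoc]
  rw [BraidedCategory.braiding_naturality_right_assoc, reassoc_of% (projT_nat_left j φ M),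
    ← Functor.map_comp, ← Functor.map_comp, BraidedCategory.braiding_naturality_left]

theorem isIso_projL [IsAffineHom j] (M : P.Modules) (E : O.Modules) (hM : Coh.IsQCoh M)
    (hE : Coh.IsQCoh E) : IsIso (projL j M E) := by
  have := isIso_projT j M E hM hE
  unfold projL
  infer_instance

/-- `projL` as a natural transformation in `M`. -/
noncomputable def projN (E : O.Modules) :
    DCoh.tensorRightMod ((Scheme.Modules.pushforward j).obj E) ⟶
      Scheme.Modules.pullback j ⋙ DCoh.tensorRightMod E ⋙ Scheme.Modules.pushforward j where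
  app M := projL j M E
  naturality _ _ f := projL_nat_left j f E

/-- `M ◁ φ` as a natural transformation in `M`. -/
noncomputable def tenN {E E' : P.Modules} (φ : E ⟶ E') :
    DCoh.tensorRightMod E ⟶ DCoh.tensorRightMod E' where
  app M := (M ◁ φ : (M ⊗ E : P.Modules) ⟶ M ⊗ E')
  naturality _ _ f := (whisker_exchange f φ).symm

theorem tenN_projN {E E' : O.Modules} (φ : E ⟶ E') :
    tenN ((Scheme.Modules.pushforward j).map φ) ≫ projN j E' =
      projN j E ≫ Functor.whiskerLeft (Scheme.Modules.pullback j)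
        (Functor.whiskerRight (tenN φ) (Scheme.Modules.pushforward j)) := by
  ext M : 2
  exact projL_nat_right j M φ

end Proj

theorem FMmap_eq {X Y P : Scheme.{u}} (p : P ⟶ X) (q : P ⟶ Y) {E E' : P.Modules} (φ : E ⟶ E') :
    FMmap p q φ = Functor.whiskerLeft (Scheme.Modules.pullback p)
      (Functor.whiskerRight (tenN φ) (Coh.push q)) := rfl

section Cmp

variable {X Y P O U : Scheme.{u}} (p : P ⟶ X) (q : P ⟶ Y) (j : O ⟶ P) (u : U ⟶ X)
  [IsOpenImmersion u] (pU : O ⟶ U) (w : j ≫ p = pU ≫ u)

/-- `j^* p^* M ≅ pU^* (M|_U)`. -/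
noncomputable def kap : Scheme.Modules.pullback p ⋙ Scheme.Modules.pullback j ≅
    Scheme.Modules.restrictFunctor u ⋙ Scheme.Modules.pullback pU :=
  K355.pullIso j p _ w ≪≫ (K355.pullIso pU u _ rfl).symm ≪≫
    Functor.isoWhiskerRight (Scheme.Modules.restrictFunctorIsoPullback u).symm
      (Scheme.Modules.pullback pU)

/-- First step of the comparison. -/
noncomputable def cN1 (E : O.Modules) : K355.FM p q ((Scheme.Modules.pushforward j).obj E) ⟶
    (Scheme.Modules.pullback p ⋙ Scheme.Modules.pullback j ⋙ DCoh.tensorRightMod E) ⋙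
      (Scheme.Modules.pushforward j ⋙ Coh.push q) :=
  Functor.whiskerLeft (Scheme.Modules.pullback p) (Functor.whiskerRight (projN j E) (Coh.push q))

/-- Second step of the comparison. -/
noncomputable def cN2 (E : O.Modules) :
    (Scheme.Modules.pullback p ⋙ Scheme.Modules.pullback j ⋙ DCoh.tensorRightMod E) ⋙
      (Scheme.Modules.pushforward j ⋙ Coh.push q) ⟶
    (Scheme.Modules.pullback p ⋙ Scheme.Modules.pullback j) ⋙ (DCoh.tensorRightMod E ⋙
      Coh.push (j ≫ q)) :=
  Functor.whiskerLeft (Scheme.Modules.pullback p ⋙ Scheme.Modules.pullback j ⋙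
    DCoh.tensorRightMod E) (K355.pushIso j q (j ≫ q) rfl).hom

/-- Third step of the comparison. -/
noncomputable def cN3 (E : O.Modules) :
    (Scheme.Modules.pullback p ⋙ Scheme.Modules.pullback j) ⋙ (DCoh.tensorRightMod E ⋙
      Coh.push (j ≫ q)) ⟶ Scheme.Modules.restrictFunctor u ⋙ K355.FM pU (j ≫ q) E :=
  Functor.whiskerRight (kap p j u pU w).hom (DCoh.tensorRightMod E ⋙ Coh.push (j ≫ q))

/-- The comparison map. -/
noncomputable def cN (E : O.Modules) : K355.FM p q ((Scheme.Modules.pushforward j).obj E) ⟶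
    Scheme.Modules.restrictFunctor u ⋙ K355.FM pU (j ≫ q) E :=
  cN1 p q j E ≫ cN2 p q j E ≫ cN3 p q j u pU w E

theorem cN1_nat {E E' : O.Modules} (φ : E ⟶ E') :
    FMmap p q ((Scheme.Modules.pushforward j).map φ) ≫ cN1 p q j E' =
      cN1 p q j E ≫ Functor.whiskerRight (Functor.whiskerLeft (Scheme.Modules.pullback p)
        (Functor.whiskerLeft (Scheme.Modules.pullback j) (tenN φ)))
          (Scheme.Modules.pushforward j ⋙ Coh.push q) := by
  have h := tenN_projN j φ
  ext M : 2
  have h1 := congrArg (fun t => (Coh.push q).map (t.app ((Scheme.Modules.pullback p).obj M))) h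
  rw [NatTrans.comp_app, NatTrans.comp_app, Functor.map_comp, Functor.map_comp] at h1
  exact h1

theorem cN2_nat {E E' : O.Modules} (φ : E ⟶ E') :
    Functor.whiskerRight (Functor.whiskerLeft (Scheme.Modules.pullback p)
        (Functor.whiskerLeft (Scheme.Modules.pullback j) (tenN φ)))
          (Scheme.Modules.pushforward j ⋙ Coh.push q) ≫ cN2 p q j E' =
      cN2 p q j E ≫ Functor.whiskerLeft (Scheme.Modules.pullback p ⋙ Scheme.Modules.pullback j)
        (Functor.whiskerRight (tenN φ) (Coh.push (j ≫ q))) := by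
  ext M : 2
  exact (K355.pushIso j q (j ≫ q) rfl).hom.naturality
    ((tenN φ).app ((Scheme.Modules.pullback j).obj ((Scheme.Modules.pullback p).obj M)))

theorem cN3_nat {E E' : O.Modules} (φ : E ⟶ E') :
    Functor.whiskerLeft (Scheme.Modules.pullback p ⋙ Scheme.Modules.pullback j)
        (Functor.whiskerRight (tenN φ) (Coh.push (j ≫ q))) ≫ cN3 p q j u pU w E' =
      cN3 p q j u pU w E ≫ Functor.whiskerLeft (Scheme.Modules.restrictFunctor u)
        (FMmap pU (j ≫ q) φ) := by
  ext M : 2
  exact ((Functor.whiskerRight (tenN φ) (Coh.push (j ≫ q))).naturality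
    ((kap p j u pU w).hom.app M)).symm

theorem cN_nat {E E' : O.Modules} (φ : E ⟶ E') :
    FMmap p q ((Scheme.Modules.pushforward j).map φ) ≫ cN p q j u pU w E' =
      cN p q j u pU w E ≫ Functor.whiskerLeft (Scheme.Modules.restrictFunctor u)
        (FMmap pU (j ≫ q) φ) := by
  rw [cN, cN, ← Category.assoc, cN1_nat, Category.assoc, ← Category.assoc (Functor.whiskerRight _ _),
    cN2_nat, Category.assoc, Category.assoc, cN3_nat, Category.assoc]

theorem isIso_cN [IsAffineHom j] (E : O.Modules) (hE : Coh.IsQCoh E) (M : X.Modules)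
    (hM : Coh.IsQCoh M) : IsIso ((cN p q j u pU w E).app M) := by
  have h1 : IsIso ((cN1 p q j E).app M) := by
    have := isIso_projL j ((Scheme.Modules.pullback p).obj M) E (K355.isQCoh_pull p M hM) hE
    exact inferInstanceAs (IsIso ((Coh.push q).map
      (projL j ((Scheme.Modules.pullback p).obj M) E)))
  have h2 : IsIso (cN2 p q j E) := by
    unfold cN2
    infer_instance
  have h3 : IsIso (cN3 p q j u pU w E) := by
    unfold cN3
    infer_instance
  unfold cN
  rw [NatTrans.comp_app, NatTrans.comp_app]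
  infer_instance

/-- The comparison isomorphism on quasi-coherent modules. -/
noncomputable def cIso [IsAffineHom j] (E : O.Modules) (hE : Coh.IsQCoh E) :
    FMQ p q ((Scheme.Modules.pushforward j).obj E) ≅ restrictQ u ⋙ FMQ pU (j ≫ q) E :=
  NatIso.ofComponents (fun M => @asIso _ _ _ _ ((cN p q j u pU w E).app M.obj)
    (isIso_cN p q j u pU w E hE M.obj M.property)) (fun f => (cN p q j u pU w E).naturality f.hom)

theorem cIso_nat [IsAffineHom j] {E E' : O.Modules} (hE : Coh.IsQCoh E) (hE' : Coh.IsQCoh E')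
    (φ : E ⟶ E') : FMQmap p q ((Scheme.Modules.pushforward j).map φ) ≫
      (cIso p q j u pU w E' hE').hom = (cIso p q j u pU w E hE).hom ≫
        Functor.whiskerLeft (restrictQ u) (FMQmap pU (j ≫ q) φ) := by
  ext M : 2
  exact congrArg (fun t => t.app M.obj) (cN_nat p q j u pU w φ)

end Cmp

end K350.Ker
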