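import Mathlib.RingTheory.Support
import Mathlib.RingTheory.Nakayama
import Mathlib.RingTheory.Ideal.Quotient.Operations
import Mathlib.LinearAlgebra.Dimension.Constructions
import Mathlib.LinearAlgebra.Dimension.Free
import Mathlib.Tactic

/-!
# Counting maximal ideals in the support
-/

set_option autoImplicit false
universe u

namespace K350.Cnt

/-- The module `N / nN` is nonzero for a maximal ideal `n` in the support of the finite module `N`. -/
theorem nontrivial_quot {A N : Type*} [CommRing A] [AddCommGroup N] [Module A N] [Module.Finite A N]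
    (n : PrimeSpectrum A) (hn : n ∈ Module.support A N) :
    Nontrivial (N ⧸ (n.asIdeal • ⊤ : Submodule A N)) := by
  rw [Submodule.Quotient.nontrivial_iff]
  intro h
  obtain ⟨r, hr, hr2⟩ := Submodule.exists_sub_one_mem_and_smul_eq_zero_of_fg_of_le_smul n.asIdeal
    (⊤ : Submodule A N) Module.Finite.fg_top h.ge
  rw [Module.mem_support_iff_of_finite] at hn
  have h1 : r ∈ n.asIdeal := hn (Module.mem_annihilator.2 fun x => hr2 x trivial)
  have h2 : (1 : A) ∈ n.asIdeal := by
    have := n.asIdeal.sub_mem h1 hr
    simpa using this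
  exact n.isPrime.ne_top ((Ideal.eq_top_iff_one _).2 h2)

theorem card_le {B A : Type u} [CommRing B] [CommRing A] [Algebra B A] (m : Ideal B) [m.IsMaximal]
    {E N : Type u} [AddCommGroup E] [Module B E] [AddCommGroup N] [Module B N] [Module A N]
    [IsScalarTower B A N] [Module.Finite A N] (r : ℕ) (gen : Fin r → E)
    (hgen : Submodule.span B (Set.range gen) = ⊤) (φ : E →ₗ[B] N) (hφ : Function.Surjective φ)
    (S : Finset (PrimeSpectrum A))
    (hS : ∀ n ∈ S, n.asIdeal.IsMaximal ∧ n.asIdeal.comap (algebraMap B A) = m ∧ n ∈ Module.support A N) :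
    S.card ≤ r := by
  classical
  let κ := B ⧸ m
  let _ : Field κ := Ideal.Quotient.field m
  let Q : S → Type u := fun n => N ⧸ (n.1.asIdeal • ⊤ : Submodule A N)
  let iM : ∀ n : S, Module κ (Q n) := fun n =>
    Module.compHom (Q n) (Ideal.quotientMap n.1.asIdeal (algebraMap B A) (hS n.1 n.2).2.1.ge)
  have hsm : ∀ (n : S) (b : B) (x : N), (Ideal.Quotient.mk m b : κ) • (Submodule.Quotient.mk x : Q n) =
      Submodule.Quotient.mk (b • x) := by
    intro n b x
    change (Ideal.Quotient.mk n.1.asIdeal (algebraMap B A b)) •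
      (Submodule.Quotient.mk x : N ⧸ (n.1.asIdeal • ⊤ : Submodule A N)) = _
    rw [← algebraMap_smul A b x]
    rfl
  let f : E →ₛₗ[Ideal.Quotient.mk m] (∀ n : S, Q n) :=
    { toFun := fun e n => Submodule.Quotient.mk (φ e)
      map_add' := fun x y => by
        ext n
        simp only [map_add, Pi.add_apply]
        rfl
      map_smul' := fun c x => by
        ext n
        rw [map_smul, Pi.smul_apply]
        exact (hsm n c (φ x)).symm }
  have hf : Function.Surjective f := by
    intro v
    have hcop : Pairwise fun i j : S => IsCoprime i.1.asIdeal j.1.asIdeal := by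
      intro i j hij
      have h1 := (hS i.1 i.2).1
      have h2 := (hS j.1 j.2).1
      exact Ideal.isCoprime_iff_sup_eq.2 (h1.coprime_of_ne h2 fun h =>
        hij (Subtype.ext (PrimeSpectrum.ext h)))
    have hx : ∀ n : S, ∃ x : N, (Submodule.Quotient.mk x : Q n) = v n := fun n =>
      Submodule.Quotient.mk_surjective _ (v n)
    choose x hx using hx
    have he : ∀ n : S, ∃ e : A, ∀ i : S, e - (if i = n then 1 else 0) ∈ i.1.asIdeal := fun n =>
      Ideal.exists_forall_sub_mem_ideal hcop _
    choose e he using he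
    obtain ⟨y, hy⟩ := hφ (∑ n : S, e n • x n)
    refine ⟨y, ?_⟩
    ext i
    change (Submodule.Quotient.mk (φ y) : Q i) = v i
    rw [hy, ← hx i]
    refine (Submodule.Quotient.eq _).2 ?_
    have h3 : (∑ n : S, e n • x n) - x i =
        ∑ n : S, (e n - (if i = n then 1 else 0)) • x n := by
      simp only [sub_smul, Finset.sum_sub_distrib, ite_smul, one_smul, zero_smul, Finset.sum_ite_eq,
        Finset.mem_univ, if_true]
    rw [h3]
    exact Submodule.sum_mem _ fun n _ => Submodule.smul_mem_smul (he n i) trivial
  have hspan : Submodule.span κ (Set.range (f ∘ gen)) = ⊤ := by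
    have : RingHomSurjective (Ideal.Quotient.mk m) := ⟨Ideal.Quotient.mk_surjective⟩
    have h4 := Submodule.map_span f (Set.range gen)
    rw [hgen, Submodule.map_top, LinearMap.range_eq_top.2 hf, ← Set.range_comp] at h4
    exact h4.symm
  have hfin : Module.Finite κ (∀ n : S, Q n) := ⟨⟨(Set.range (f ∘ gen)).toFinset, by rw [Set.coe_toFinset]; exact hspan⟩⟩
  have hfin' : ∀ n : S, Module.Finite κ (Q n) := fun n =>
    Module.Finite.of_surjective (LinearMap.proj n : (∀ n : S, Q n) →ₗ[κ] Q n)
      (LinearMap.proj_surjective n)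
  have hle : Module.finrank κ (∀ n : S, Q n) ≤ r := by
    have h5 := finrank_range_le_card (R := κ) (f ∘ gen)
    rw [Set.finrank, hspan, finrank_top, Fintype.card_fin] at h5
    exact h5
  have hpos : ∀ n : S, 1 ≤ Module.finrank κ (Q n) := fun n => by
    have := nontrivial_quot n.1 (hS n.1 n.2).2.2
    have h6 : Nontrivial (Q n) := this
    exact Module.finrank_pos
  rw [Module.finrank_pi_fintype] at hle
  calc S.card = ∑ _n : S, 1 := by simp
    _ ≤ ∑ n : S, Module.finrank κ (Q n) := Finset.sum_le_sum fun n _ => hpos n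
    _ ≤ r := hle

end K350.Cnt
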