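import Groth.Agent.FunMor.K350.CohKer
import Groth.Agent.Dcoh.DerSch

/-!
# Exact functors on coherent modules: assembly
-/

set_option autoImplicit false
universe u
open CategoryTheory CategoryTheory.Limits AlgebraicGeometry MonoidalCategory

namespace K350.Ker

open Groth.Agent.Models2.QCohPush

/-- The composite isomorphism on coherent modules. -/
theorem nonempty_coh_iso {X Y P : Scheme.{u}} {p : P ⟶ X} {q : P ⟶ Y}
    (F : (K355.cohP X).FullSubcategory ⥤ (K355.cohP Y).FullSubcategory) {K : P.Modules}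
    (F' : QCohCat.QCoh X ⥤ QCohCat.QCoh Y) (s : FQ F' ≅ FMQ p q K)
    (e : K355.incC X ⋙ F' ≅ F ⋙ K355.incC Y) :
    Nonempty (F ⋙ (K355.cohP Y).ι ≅ (K355.cohP X).ι ⋙ K355.FM p q K) := by
  let e1 : F ⋙ (K355.cohP Y).ι ≅ (F ⋙ K355.incC Y) ⋙ (QCohCat.isQCoh Y).ι :=
    Iso.refl _
  let e2 : (F ⋙ K355.incC Y) ⋙ (QCohCat.isQCoh Y).ι ≅ K355.incC X ⋙ FQ F' :=
    Functor.isoWhiskerRight e.symm _
  let e3 : K355.incC X ⋙ FQ F' ≅ K355.incC X ⋙ FMQ p q K := Functor.isoWhiskerLeft _ s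
  exact ⟨e1 ≪≫ e2 ≪≫ e3⟩

end K350.Ker
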