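import Groth.Agent.FunMor.K350.Glue

/-!
# The kernel of a right exact functor: gluing
-/

set_option autoImplicit false
universe u
open CategoryTheory CategoryTheory.Limits AlgebraicGeometry MonoidalCategory

namespace K350.Ker

open Groth.Agent.FormalB.ModPow K350.WattsQ K350.Desc
open Groth.Agent.Models2.QCohPush Groth.Agent.EGA2.K32 Groth.Agent.Fdesc.LocGen
open scoped Groth.Agent.Dcoh.MonCat

variable {X Y P S : Scheme.{u}} {p : P ⟶ X} {q : P ⟶ Y} {a : X ⟶ S} {b : Y ⟶ S}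

theorem IsUniv.exists_tau {F : QCohCat.QCoh X ⥤ QCohCat.QCoh Y} {O O' : P.Opens} (hO : O' ≤ O)
    [QuasiCompact O'.ι] [QuasiCompact O.ι] {N N' : P.Modules} {t : FQ F ⟶ FMQ p q N}
    {t' : FQ F ⟶ FMQ p q N'} (h : IsUniv p q F O N t) (h' : IsUniv p q F O' N' t') :
    ∃ τ : N ⟶ N', t ≫ FMQmap p q τ = t' ∧ IsoOn O' τ := by
  obtain ⟨τ, hτ⟩ := h.exists_hom (h'.loc.of_le hO) t'
  refine ⟨τ, hτ, ?_⟩
  have hL := isLoc_nu O' N h.loc.isQCoh
  have hν := isoOn_nu O' N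
  obtain ⟨ψ, hψ⟩ := h'.exists_hom hL (t ≫ FMQmap p q (nu O' N))
  have h1 : τ ≫ ψ = nu O' N := h.hom_ext (hL.of_le hO) (by
    rw [FMQmap_comp, ← Category.assoc, hτ, hψ])
  obtain ⟨θ, hθ⟩ := h'.loc.exists_hom hν τ
  have h2 : ψ ≫ θ = 𝟙 _ := h'.hom_ext h'.loc (by
    rw [FMQmap_comp, ← Category.assoc, hψ, Category.assoc, ← FMQmap_comp, hθ, hτ, FMQmap_id,
      Category.comp_id])
  have h3 : θ ≫ ψ = 𝟙 _ := hL.hom_ext hν (by
    rw [← Category.assoc, hθ, h1, Category.comp_id])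
  have h4 : IsIso θ := ⟨ψ, h3, h2⟩
  rw [← hθ]
  exact hν.comp (isoOn_of_isIso O' θ)

/-- The gluing datum. -/
noncomputable def dat (p : P ⟶ X) (N : X.affineOpens → P.Modules)
    (τ : ∀ U V : X.affineOpens, V.1 ≤ U.1 → (N U ⟶ N V))
    (hcomp : ∀ (U V W : X.affineOpens) (h : V.1 ≤ U.1) (h' : W.1 ≤ V.1),
      τ U V h ≫ τ V W h' = τ U W (h'.trans h))
    (hbij : ∀ (U V : X.affineOpens) (h : V.1 ≤ U.1), IsoOn (p ⁻¹ᵁ V.1) (τ U V h))
    (hsupp : ∀ (U : X.affineOpens), IsLoc (p ⁻¹ᵁ U.1) (N U)) : GlueMod.Datum P where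
  I := X.affineOpens
  W := fun U => p ⁻¹ᵁ U.1
  T := N
  R := fun U V => V.1 ≤ U.1
  τ := fun {U V} hV => τ U V hV
  W_le := fun {U V} hV _ hx => hV hx
  trans := fun h h' => h'.trans h
  τ_comp := fun {U V W} hV hW => hcomp U V W hV hW
  bij := fun {U V} hV W hW => (hbij U V hV).bij hW
  supp := fun U V => (hsupp U).supp V
  dir := fun U V x hU hV => by
    obtain ⟨_, ⟨W, hW, rfl⟩, hxW, hWU⟩ := X.isBasis_affineOpens.exists_subset_of_mem_open
      (show p x ∈ ((U.1 ⊓ V.1 : X.Opens) : Set X) from ⟨hU, hV⟩) (U.1 ⊓ V.1 : X.Opens).isOpen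
    exact ⟨⟨W, hW⟩, fun y hy => (hWU hy).1, fun y hy => (hWU hy).2, hxW⟩

theorem cover_dat (p : P ⟶ X) (x : P) : ∃ U : X.affineOpens, x ∈ p ⁻¹ᵁ U.1 := by
  obtain ⟨_, ⟨W, hW, rfl⟩, hxW, -⟩ := X.isBasis_affineOpens.exists_subset_of_mem_open
    (Set.mem_univ (p x)) isOpen_univ
  exact ⟨⟨W, hW⟩, hxW⟩

/-- The kernel, with a natural transformation restricting to the universal ones over affine opens. -/
theorem exists_glued (F : QCohCat.QCoh X ⥤ QCohCat.QCoh Y)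
    [∀ U : X.affineOpens, IsAffineHom (p ⁻¹ᵁ U.1).ι]
    (N : X.affineOpens → P.Modules) (t : ∀ U, FQ F ⟶ FMQ p q (N U))
    (h : ∀ U, IsUniv p q F (p ⁻¹ᵁ U.1) (N U) (t U)) :
    ∃ (K : P.Modules) (_ : Coh.IsQCoh K) (s : FQ F ⟶ FMQ p q K) (g : ∀ U, K ⟶ N U),
      (∀ U, IsoOn (p ⁻¹ᵁ U.1) (g U)) ∧ (∀ U, s ≫ FMQmap p q (g U) = t U) := by
  have h1 := fun (U V : X.affineOpens) (hV : V.1 ≤ U.1) =>
    (h U).exists_tau (show p ⁻¹ᵁ V.1 ≤ p ⁻¹ᵁ U.1 from fun _ hx => hV hx) (h V)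
  choose τ hτ hτ' using h1
  have hcomp : ∀ (U V W : X.affineOpens) (h : V.1 ≤ U.1) (h' : W.1 ≤ V.1),
      τ U V h ≫ τ V W h' = τ U W (h'.trans h) := fun U V W hV hW =>
    (h U).hom_ext ((h W).loc.of_le (show p ⁻¹ᵁ W.1 ≤ p ⁻¹ᵁ U.1 from fun _ hx => hV (hW hx))) (by
      rw [FMQmap_comp, ← Category.assoc, hτ, hτ, hτ])
  let D := dat p N τ hcomp hτ' (fun U => (h U).loc)
  have hg : ∀ U : X.affineOpens, IsoOn (p ⁻¹ᵁ U.1) (GlueMod.lam D U) := fun U =>
    isoOn_of_bij _ fun V hV => GlueMod.lam_bijective D U hV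
  have hgτ : ∀ (U V : X.affineOpens) (hV : V.1 ≤ U.1),
      GlueMod.lam D U ≫ τ U V hV = GlueMod.lam D V := fun U V hV =>
    GlueMod.lam_τ D (i := U) (k := V) hV
  have hK : Coh.IsQCoh (GlueMod.glued D) := by
    refine Groth.Agent.Ega1.QCohLoc.isQCoh_of_isOpenCover _ (fun U : X.affineOpens => p ⁻¹ᵁ U.1)
      ?_ fun U => ?_
    · exact TopologicalSpace.IsOpenCover.mk (eq_top_iff.2 fun x _ => by
        obtain ⟨U, hU⟩ := cover_dat p x
        exact TopologicalSpace.Opens.mem_iSup.2 ⟨U, hU⟩)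
    · have h2 : IsIso ((Scheme.Modules.restrictFunctor (p ⁻¹ᵁ U.1).ι).map (GlueMod.lam D U)) :=
        hg U
      exact Groth.Agent.Ega1.QCohLoc.isQCoh_of_iso
        (asIso ((Scheme.Modules.restrictFunctor (p ⁻¹ᵁ U.1).ι).map (GlueMod.lam D U))).symm
        (Groth.Agent.PerfA.QCohSerre.isQCoh_restrict _ (h U).loc.isQCoh)
  -- the natural transformation
  have key : ∀ (M : QCohCat.QCoh X) {A : Y.Modules} (φ : ∀ U, A ⟶ (FMQ p q (N U)).obj M)
      (_ : ∀ (U V : X.affineOpens) (hV : V.1 ≤ U.1), φ U ≫ (FMQmap p q (τ U V hV)).app M = φ V),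
      ∃! ψ : A ⟶ (FMQ p q (GlueMod.glued D)).obj M,
        ∀ U, ψ ≫ (FMQmap p q (GlueMod.lam D U)).app M = φ U := by
    intro M A φ hφ
    have hM : Coh.IsQCoh ((Scheme.Modules.pullback p).obj M.obj) := K355.isQCoh_pull p _ M.property
    let D' := dat p (fun U => ((Scheme.Modules.pullback p).obj M.obj ⊗ N U : P.Modules))
      (fun U V hV => (Scheme.Modules.pullback p).obj M.obj ◁ τ U V hV)
      (fun U V W hV hW => by rw [← MonoidalCategory.whiskerLeft_comp, hcomp])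
      (fun U V hV => (hτ' U V hV).whiskerLeft _)
      (fun U => (h U).loc.tensor _ hM)
    exact existsUnique_lift_push D' (cover_dat p)
      (G := ((Scheme.Modules.pullback p).obj M.obj ⊗ GlueMod.glued D : P.Modules))
      (fun U => (Scheme.Modules.pullback p).obj M.obj ◁ GlueMod.lam D U)
      (fun U V hV => by
        change _ ◁ GlueMod.lam D U ≫ _ ◁ τ U V hV = _
        rw [← MonoidalCategory.whiskerLeft_comp, hgτ])
      (fun U => (hg U).whiskerLeft _) q φ (fun U V hV => hφ U V hV)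
  have h3 : ∀ M : QCohCat.QCoh X, ∃! ψ : (FQ F).obj M ⟶ (FMQ p q (GlueMod.glued D)).obj M,
      ∀ U, ψ ≫ (FMQmap p q (GlueMod.lam D U)).app M = (t U).app M := fun M =>
    key M (fun U => (t U).app M) (fun U V hV => by rw [← NatTrans.comp_app, hτ])
  choose s hs using fun M => (h3 M).exists
  refine ⟨GlueMod.glued D, hK, { app := s, naturality := ?_ }, GlueMod.lam D, hg, ?_⟩
  · intro M M' f
    obtain ⟨_, _, hu⟩ := key M' (fun U => (FQ F).map f ≫ (t U).app M') (fun U V hV => by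
      rw [Category.assoc, ← NatTrans.comp_app, hτ])
    refine (hu _ fun U => ?_).trans (hu _ fun U => ?_).symm
    · rw [Category.assoc, hs]
      rfl
    · rw [Category.assoc, (FMQmap p q (GlueMod.lam D U)).naturality, ← Category.assoc, hs,
        (t U).naturality]
      rfl
  · intro U
    ext M : 2
    exact hs M U

end K350.Ker
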