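import Groth.Agent.FunMor.K350.Cmp

/-!
# Precomposition of `FM p q K` with the pushforward along an affine morphism, naturally in `K`
-/

set_option autoImplicit false
universe u
open CategoryTheory CategoryTheory.Limits AlgebraicGeometry MonoidalCategory

namespace K350.Ker

open Groth.Agent.FormalB.ModPow K350.WattsQ K350.Desc Groth.Agent.Dcoh.ClosedProj
open Groth.Agent.Models2.QCohPush
open scoped Groth.Agent.Dcoh.MonCat

variable {X Y P X' P' : Scheme.{u}} (p : P ⟶ X) (q : P ⟶ Y) (f : X' ⟶ X) (p' : P' ⟶ X')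
  (q' : P' ⟶ Y) (g : P' ⟶ P)

/-- First step. -/
noncomputable def dN1 (w : p' ≫ f = g ≫ p) (K : P.Modules) :
    Coh.push f ⋙ K355.FM p q K ⟶
      (Scheme.Modules.pullback p' ⋙ Scheme.Modules.pushforward g) ⋙
        (DCoh.tensorRightMod K ⋙ Coh.push q) :=
  Functor.whiskerRight (K355.bcMap f p p' g w) (DCoh.tensorRightMod K ⋙ Coh.push q)

/-- Second step. -/
noncomputable def dN2 (K : P.Modules) :
    (Scheme.Modules.pullback p' ⋙ Scheme.Modules.pushforward g) ⋙
        (DCoh.tensorRightMod K ⋙ Coh.push q) ⟶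
      (Scheme.Modules.pullback p' ⋙ DCoh.tensorRightMod ((Scheme.Modules.pullback g).obj K)) ⋙
        (Scheme.Modules.pushforward g ⋙ Coh.push q) :=
  Functor.whiskerLeft (Scheme.Modules.pullback p')
    (Functor.whiskerRight (K355.projR g K) (Coh.push q))

/-- Third step. -/
noncomputable def dN3 (hq : g ≫ q = q') (K : P.Modules) :
    (Scheme.Modules.pullback p' ⋙ DCoh.tensorRightMod ((Scheme.Modules.pullback g).obj K)) ⋙
        (Scheme.Modules.pushforward g ⋙ Coh.push q) ⟶
      K355.FM p' q' ((Scheme.Modules.pullback g).obj K) :=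
  Functor.whiskerLeft (Scheme.Modules.pullback p' ⋙
    DCoh.tensorRightMod ((Scheme.Modules.pullback g).obj K)) (K355.pushIso g q q' hq).hom

/-- The comparison map. -/
noncomputable def dN (w : p' ≫ f = g ≫ p) (hq : g ≫ q = q') (K : P.Modules) :
    Coh.push f ⋙ K355.FM p q K ⟶ K355.FM p' q' ((Scheme.Modules.pullback g).obj K) :=
  dN1 p q f p' g w K ≫ dN2 q p' g K ≫ dN3 q p' q' g hq K

theorem dN1_nat (w : p' ≫ f = g ≫ p) {K K' : P.Modules} (φ : K ⟶ K') :
    Functor.whiskerLeft (Coh.push f) (FMmap p q φ) ≫ dN1 p q f p' g w K' =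
      dN1 p q f p' g w K ≫ Functor.whiskerLeft (Scheme.Modules.pullback p' ⋙
        Scheme.Modules.pushforward g) (Functor.whiskerRight (tenN φ) (Coh.push q)) := by
  ext M : 2
  exact ((Functor.whiskerRight (tenN φ) (Coh.push q)).naturality
    ((K355.bcMap f p p' g w).app M)).symm

theorem dN2_nat {K K' : P.Modules} (φ : K ⟶ K') :
    Functor.whiskerLeft (Scheme.Modules.pullback p' ⋙
        Scheme.Modules.pushforward g) (Functor.whiskerRight (tenN φ) (Coh.push q)) ≫
          dN2 q p' g K' =
      dN2 q p' g K ≫ Functor.whiskerRight (Functor.whiskerLeft (Scheme.Modules.pullback p')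
        (tenN ((Scheme.Modules.pullback g).map φ))) (Scheme.Modules.pushforward g ⋙ Coh.push q) := by
  ext M : 2
  have h := proj_naturality_right g ((Scheme.Modules.pullback p').obj M) φ
  have h1 := congrArg (Coh.push q).map h
  rw [Functor.map_comp, Functor.map_comp] at h1
  exact h1

theorem dN3_nat (hq : g ≫ q = q') {K K' : P.Modules} (φ : K ⟶ K') :
    Functor.whiskerRight (Functor.whiskerLeft (Scheme.Modules.pullback p')
        (tenN ((Scheme.Modules.pullback g).map φ))) (Scheme.Modules.pushforward g ⋙ Coh.push q) ≫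
          dN3 q p' q' g hq K' =
      dN3 q p' q' g hq K ≫ FMmap p' q' ((Scheme.Modules.pullback g).map φ) := by
  ext M : 2
  exact (K355.pushIso g q q' hq).hom.naturality
    ((tenN ((Scheme.Modules.pullback g).map φ)).app ((Scheme.Modules.pullback p').obj M))

theorem dN_nat (w : p' ≫ f = g ≫ p) (hq : g ≫ q = q') {K K' : P.Modules} (φ : K ⟶ K') :
    Functor.whiskerLeft (Coh.push f) (FMmap p q φ) ≫ dN p q f p' q' g w hq K' =
      dN p q f p' q' g w hq K ≫ FMmap p' q' ((Scheme.Modules.pullback g).map φ) := by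
  rw [dN, dN, ← Category.assoc, dN1_nat, Category.assoc, ← Category.assoc
    (Functor.whiskerLeft _ (Functor.whiskerRight _ _)), dN2_nat, Category.assoc, Category.assoc,
    dN3_nat, Category.assoc]

theorem isIso_dN [IsAffineHom f] (h : IsPullback p' g f p) (hq : g ≫ q = q') (K : P.Modules)
    (hK : Coh.IsQCoh K) (M : X'.Modules) (hM : Coh.IsQCoh M) :
    IsIso ((dN p q f p' q' g h.w hq K).app M) := by
  have hg : IsAffineHom g := MorphismProperty.of_isPullback h ‹_›
  have h1 : IsIso ((dN1 p q f p' g h.w K).app M) := by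
    have := K355.isIso_bcMap_affine f p p' g h M hM
    exact inferInstanceAs (IsIso ((DCoh.tensorRightMod K ⋙ Coh.push q).map
      ((K355.bcMap f p p' g h.w).app M)))
  have h2 : IsIso ((dN2 q p' g K).app M) := by
    have := K355.isIso_proj_affine g ((Scheme.Modules.pullback p').obj M) K
      (K355.isQCoh_pull p' M hM) hK
    exact inferInstanceAs (IsIso ((Coh.push q).map
      (proj g ((Scheme.Modules.pullback p').obj M) K)))
  have h3 : IsIso (dN3 q p' q' g hq K) := by
    unfold dN3
    infer_instance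
  unfold dN
  rw [NatTrans.comp_app, NatTrans.comp_app]
  infer_instance

/-- Precomposition with the pushforward along an affine morphism. -/
noncomputable def dIso [IsAffineHom f] (h : IsPullback p' g f p) (hq : g ≫ q = q')
    (K : P.Modules) (hK : Coh.IsQCoh K) :
    pushQ f ⋙ FMQ p q K ≅ FMQ p' q' ((Scheme.Modules.pullback g).obj K) :=
  NatIso.ofComponents (fun M => @asIso _ _ _ _ ((dN p q f p' q' g h.w hq K).app M.obj)
    (isIso_dN p q f p' q' g h hq K hK M.obj M.property))
      (fun a => (dN p q f p' q' g h.w hq K).naturality a.hom)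

theorem dIso_nat [IsAffineHom f] (h : IsPullback p' g f p) (hq : g ≫ q = q')
    {K K' : P.Modules} (hK : Coh.IsQCoh K) (hK' : Coh.IsQCoh K') (φ : K ⟶ K') :
    Functor.whiskerLeft (pushQ f) (FMQmap p q φ) ≫ (dIso p q f p' q' g h hq K' hK').hom =
      (dIso p q f p' q' g h hq K hK).hom ≫ FMQmap p' q' ((Scheme.Modules.pullback g).map φ) := by
  ext M : 2
  exact congrArg (fun t => t.app M.obj) (dN_nat p q f p' q' g h.w hq φ)

end K350.Ker
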