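import Groth.Agent.FunMor.K355.SecQ
import Groth.Agent.FunMor.K355.QCohGen

/-!
# Quotients of quasi-coherent modules by endomorphisms, and descent along an affine morphism

`exists_quot`: the quotient of a quasi-coherent module by a family of endomorphisms, with its sections over affine
opens.
-/

set_option autoImplicit false
universe u v' u' v'' u''
open CategoryTheory CategoryTheory.Limits AlgebraicGeometry

namespace K350.Quot

section Abs

variable {C : Type u'} [Category.{v'} C] [HasZeroMorphisms C] {D : Type u''} [Category.{v''} D]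
  [HasZeroMorphisms D] {ι : Type u} {E : C} (δ : ι → (E ⟶ E)) [HasCoproduct (fun _ : ι => E)]
  [HasCokernel (Sigma.desc δ)]

omit [HasZeroMorphisms C] [HasCokernel (Sigma.desc δ)] in
theorem map_desc_comp (G : C ⥤ D) [PreservesColimitsOfShape (Discrete ι) G]
    {L : D} (f : G.obj E ⟶ L) (hf : ∀ a, G.map (δ a) ≫ f = 0) : G.map (Sigma.desc δ) ≫ f = 0 := by
  refine (isColimitOfPreserves G (coproductIsCoproduct (fun _ : ι => E))).hom_ext fun ⟨a⟩ => ?_
  rw [comp_zero]
  change G.map (Sigma.ι (fun _ : ι => E) a) ≫ G.map (Sigma.desc δ) ≫ f = 0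
  rw [← G.map_comp_assoc, Sigma.ι_desc, hf]

theorem exists_desc (G : C ⥤ D) [PreservesColimitsOfShape (Discrete ι) G]
    [PreservesColimitsOfShape WalkingParallelPair G] [G.PreservesZeroMorphisms]
    {L : D} (f : G.obj E ⟶ L) (hf : ∀ a, G.map (δ a) ≫ f = 0) :
    ∃! g : G.obj (cokernel (Sigma.desc δ)) ⟶ L, G.map (cokernel.π (Sigma.desc δ)) ≫ g = f := by
  have h1 := map_desc_comp δ G f hf
  have h2 := isColimitCoforkMapOfIsColimit' G (cokernel.condition (Sigma.desc δ))
    (cokernelIsCokernel (Sigma.desc δ))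
  refine ⟨h2.desc (CokernelCofork.ofπ f h1), h2.fac (CokernelCofork.ofπ f h1)
    WalkingParallelPair.one, fun g hg => ?_⟩
  refine Cofork.IsColimit.hom_ext h2 ?_
  exact hg.trans (h2.fac (CokernelCofork.ofπ f h1) WalkingParallelPair.one).symm

end Abs

variable {Z : Scheme.{u}}

/-- The quotient of a quasi-coherent module by a family of endomorphisms. -/
theorem exists_quot {ι : Type u} (E : QCohCat.QCoh Z) (δ : ι → (E ⟶ E)) :
    ∃ (T : QCohCat.QCoh Z) (π : E ⟶ T), (∀ a, δ a ≫ π = 0) ∧
      (∀ {G : Z.Modules} (f : E.obj ⟶ G), (∀ a, (δ a).hom ≫ f = 0) →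
        ∃! g : T.obj ⟶ G, π.hom ≫ g = f) ∧
      (∀ (W : Z.Opens), IsAffineOpen W → ∀ (L : Type u) [AddCommGroup L]
        (h : Γ(E.obj, W) →+ L), (∀ a x, h ((δ a).hom.app W x) = 0) →
          ∃ h' : Γ(T.obj, W) →+ L, ∀ x, h' (π.hom.app W x) = h x) ∧
      (∀ (W : Z.Opens), IsAffineOpen W → Function.Surjective (π.hom.app W)) := by
  have := K355.abelianQCoh Z
  refine ⟨cokernel (Sigma.desc δ), cokernel.π (Sigma.desc δ), fun a => ?_, fun {G} f hf => ?_,
    fun W hW L _ h hh => ?_, fun W hW => ?_⟩
  · rw [← Sigma.ι_desc δ a, Category.assoc, cokernel.condition, comp_zero]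
  · have := K355.preservesFiniteColimits_ιQ Z
    have : PreservesColimitsOfShape WalkingParallelPair (QCohCat.isQCoh Z).ι :=
      PreservesFiniteColimits.preservesFiniteColimits _
    exact exists_desc δ (QCohCat.isQCoh Z).ι f hf
  · have h1 := K355.preservesColimits_secQ hW (Discrete ι)
    have h2 : PreservesColimitsOfShape WalkingParallelPair (K355.secQ W) := by
      have : PreservesColimitsOfSize.{u, u} (K355.secQ W) :=
        ⟨fun {J} _ => K355.preservesColimits_secQ hW J⟩
      infer_instance
    have h3 : (K355.secQ W).PreservesZeroMorphisms := ⟨fun _ _ => rfl⟩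
    obtain ⟨g, hg, -⟩ := exists_desc δ (K355.secQ W) (L := AddCommGrpCat.of L)
      (AddCommGrpCat.ofHom h) (fun a => by
        ext x
        exact hh a x)
    exact ⟨g.hom, fun x => ConcreteCategory.congr_hom hg x⟩
  · have h2 : PreservesColimitsOfShape WalkingParallelPair (K355.secQ W) := by
      have : PreservesColimitsOfSize.{u, u} (K355.secQ W) :=
        ⟨fun {J} _ => K355.preservesColimits_secQ hW J⟩
      infer_instance
    have h3 : PreservesColimitsOfShape WalkingSpan (K355.secQ W) := by
      have : PreservesColimitsOfSize.{u, u} (K355.secQ W) :=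
        ⟨fun {J} _ => K355.preservesColimits_secQ hW J⟩
      infer_instance
    have h4 : Epi ((K355.secQ W).map (cokernel.π (Sigma.desc δ))) := inferInstance
    exact (AddCommGrpCat.epi_iff_surjective _).1 h4

end K350.Quot
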