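import Groth.Agent.FunMor.K350.CohAsm
import Groth.Agent.FunMor.K997.FMCoh
import Groth.Agent.CurvesB.UnitCoh

/-!
# Exact functors on coherent modules: the kernel is coherent
-/

set_option autoImplicit false
universe u
open CategoryTheory CategoryTheory.Limits AlgebraicGeometry MonoidalCategory

namespace K350.Ker

open Groth.Agent.Models2.QCohPush K350.WattsQ

section

variable {X Y P : Scheme.{u}} {p : P ⟶ X} {q : P ⟶ Y} {K : P.Modules}

/-- The functor defined by the kernel preserves epimorphisms of quasi-coherent modules. -/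
theorem epi_FMQ (F' : QCohCat.QCoh X ⥤ QCohCat.QCoh Y) [PreservesFiniteColimits F']
    (s : FQ F' ≅ FMQ p q K) {M N : QCohCat.QCoh X} (f : M ⟶ N) (hf : Epi f) :
    Epi ((FMQ p q K).map f) := by
  have h1 : Epi (F'.map f) := inferInstance
  have h2 : PreservesFiniteColimits (QCohCat.isQCoh Y).ι := K355.preservesFiniteColimits_ιQ Y
  have h3 : Epi ((FQ F').map f) := by
    change Epi ((QCohCat.isQCoh Y).ι.map (F'.map f))
    infer_instance
  have h4 : (FMQ p q K).map f = s.inv.app M ≫ (FQ F').map f ≫ s.hom.app N := by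
    rw [s.hom.naturality, ← Category.assoc, Iso.inv_hom_id_app, Category.id_comp]
  rw [h4]
  infer_instance

/-- `O_X` as a coherent module. -/
noncomputable def OC (X : Scheme.{u}) : (K355.cohP X).FullSubcategory :=
  ⟨Coh.structureModule X, Groth.Agent.CurvesB.UnitCoh.isCoh_structureModule X⟩

/-- The values of the functor defined by the kernel on coherent modules are coherent. -/
theorem isCoh_FM (F : (K355.cohP X).FullSubcategory ⥤ (K355.cohP Y).FullSubcategory)
    (F' : QCohCat.QCoh X ⥤ QCohCat.QCoh Y) (s : FQ F' ≅ FMQ p q K)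
    (e : K355.incC X ⋙ F' ≅ F ⋙ K355.incC Y) (M : X.Modules) (hM : Coh.IsCoh M) :
    Coh.IsCoh ((K355.FM p q K).obj M) := by
  obtain ⟨e1⟩ := nonempty_coh_iso F F' s e
  exact Groth.Agent.PerfA.CohSerre.isCoh_of_iso (e1.app ⟨M, hM⟩) (F.obj ⟨M, hM⟩).property

/-- The direct image of the kernel is coherent. -/
theorem isCoh_push (F : (K355.cohP X).FullSubcategory ⥤ (K355.cohP Y).FullSubcategory)
    (F' : QCohCat.QCoh X ⥤ QCohCat.QCoh Y) (s : FQ F' ≅ FMQ p q K)
    (e : K355.incC X ⋙ F' ≅ F ⋙ K355.incC Y) :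
    Coh.IsCoh ((Coh.push q).obj K) :=
  Groth.Agent.PerfA.CohSerre.isCoh_of_iso (unitQ p q K) (isCoh_FM F F' s e _ (OC X).property)

/-- The kernel is coherent. -/
theorem isCoh_kernel {R : Type u} [CommRing R] [IsNoetherian P]
    {a : X ⟶ Spec (.of R)} {b : Y ⟶ Spec (.of R)}
    (sq : IsPullback p q a b) [IsSeparated a] [QuasiCompact q] [QuasiSeparated q]
    (F : (K355.cohP X).FullSubcategory ⥤ (K355.cohP Y).FullSubcategory)
    (F' : QCohCat.QCoh X ⥤ QCohCat.QCoh Y) [PreservesFiniteColimits F'] (s : FQ F' ≅ FMQ p q K)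
    (e : K355.incC X ⋙ F' ≅ F ⋙ K355.incC Y) (hK : Coh.IsQCoh K) : Coh.IsCoh K := by
  have hX : X.IsSeparated := by
    have h1 : IsSeparated (a ≫ Limits.terminal.from _) := inferInstance
    refine ⟨?_⟩
    rwa [Subsingleton.elim (terminal.from X) (a ≫ Limits.terminal.from _)]
  exact K997.FMCoh.isCoh sq hK (fun f hf => epi_FMQ F' s f hf) (isCoh_push F F' s e)

end

end K350.Ker
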