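import Groth.Agent.FunMor.K350.KerMain
import Groth.Prelude.Def_KLin

/-!
# Linear functors, affine diagonal
-/

set_option autoImplicit false
universe u
open CategoryTheory CategoryTheory.Limits AlgebraicGeometry

namespace K350.Ker

theorem isAffineHom_of_diag {X X' S : Scheme.{u}} [IsAffine S] (a : X ⟶ S)
    [h : IsAffineHom (pullback.diagonal a)] [IsAffine X'] (f : X' ⟶ X) : IsAffineHom f := by
  have h1 : MorphismProperty.HasOfPostcompProperty @IsAffineHom
      (MorphismProperty.diagonal @IsAffineHom) :=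
    MorphismProperty.hasOfPostcompProperty_iff_le_diagonal.mpr le_rfl
  exact MorphismProperty.of_postcomp (W := @IsAffineHom)
    (W' := MorphismProperty.diagonal @IsAffineHom) f a h
    (inferInstance : IsAffineHom (f ≫ a))

variable (R : Type u) [CommRing R] {X Y : Scheme.{u}} [X.Over (Spec (.of R))]
  [Y.Over (Spec (.of R))]

theorem rlin_of_linear (F : QCohCat.QCoh X ⥤ QCohCat.QCoh Y) [F.Additive] [F.Linear R] :
    RLin (X ↘ Spec (.of R)) (Y ↘ Spec (.of R)) F := by
  intro r M
  let c : R := (Scheme.ΓSpecIso (CommRingCat.of R)).hom.hom r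
  have hr : (Scheme.ΓSpecIso (CommRingCat.of R)).inv.hom c = r :=
    congr($((Scheme.ΓSpecIso (CommRingCat.of R)).hom_inv_id) r)
  have h1 : smQ M ((X ↘ Spec (.of R)).appTop.hom r) = c • 𝟙 M := by
    refine ObjectProperty.hom_ext _ ?_
    have h2 : Formal.smulModΓ M.obj ((X ↘ Spec (.of R)).appTop.hom r) =
        Formal.smulMod R M.obj c := by
      rw [← hr]
      rfl
    exact h2.trans (KLin.smul_id M.obj c).symm
  rw [h1, Functor.map_smul, F.map_id]
  refine (KLin.smul_id (F.obj M).obj c).trans ?_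
  change Formal.smulModΓ (F.obj M).obj ((Y ↘ Spec (.of R)).appTop.hom
    ((Scheme.ΓSpecIso (CommRingCat.of R)).inv.hom c)) = _
  rw [hr]

end K350.Ker
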