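import Groth.Agent.FunMor.K350.KerExact
import Groth.Agent.FunMor.K350.KerLin
import Groth.Agent.FunMor.K355.CohExt
import Groth.Agent.LoccohB.AdStruct

/-!
# Exact functors on coherent modules: the kernel
-/

set_option autoImplicit false
universe u
open CategoryTheory CategoryTheory.Limits AlgebraicGeometry MonoidalCategory

namespace K350.Ker

open Groth.Agent.FormalB.ModPow K350.WattsQ K350.Desc
open Groth.Agent.Models2.QCohPush

theorem comp_smQ {X : Scheme.{u}} {M N : QCohCat.QCoh X} (f : M ⟶ N) (r : Γ(X, ⊤)) :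
    f ≫ smQ N r = smQ M r ≫ f := ObjectProperty.hom_ext _ (KLin.comp_smulModΓ f.hom r)

variable (R : Type u) [CommRing R] {X Y : Scheme.{u}} [X.Over (Spec (.of R))]
  [Y.Over (Spec (.of R))]

/-- Linearity of the extension of a linear functor on coherent modules. -/
theorem rlin_of_coh [IsNoetherian X] (F : (K355.cohP X).FullSubcategory ⥤ (K355.cohP Y).FullSubcategory)
    [F.Additive] [F.Linear R] (F' : QCohCat.QCoh X ⥤ QCohCat.QCoh Y)
    [PreservesFilteredColimitsOfSize.{u, u} F']
    (e : K355.incC X ⋙ F' ≅ F ⋙ K355.incC Y) :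
    RLin (X ↘ Spec (.of R)) (Y ↘ Spec (.of R)) F' := by
  intro r M
  let c : R := (Scheme.ΓSpecIso (CommRingCat.of R)).hom.hom r
  have hr : (Scheme.ΓSpecIso (CommRingCat.of R)).inv.hom c = r :=
    congr($((Scheme.ΓSpecIso (CommRingCat.of R)).hom_inv_id) r)
  have hX : ∀ M : X.Modules, Formal.smulModΓ M ((X ↘ Spec (.of R)).appTop.hom r) = c • 𝟙 M := by
    intro M
    rw [KLin.smul_id, ← hr]
    rfl
  have hY : ∀ M : Y.Modules, Formal.smulModΓ M ((Y ↘ Spec (.of R)).appTop.hom r) = c • 𝟙 M := by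
    intro M
    rw [KLin.smul_id, ← hr]
    rfl
  have key : ∀ L : (K355.cohP X).FullSubcategory,
      F'.map (smQ ((K355.incC X).obj L) ((X ↘ Spec (.of R)).appTop.hom r)) =
        smQ (F'.obj ((K355.incC X).obj L)) ((Y ↘ Spec (.of R)).appTop.hom r) := by
    intro L
    have h1 := e.hom.naturality (c • 𝟙 L)
    have h2 : (K355.incC X).map (c • 𝟙 L) = smQ ((K355.incC X).obj L)
        ((X ↘ Spec (.of R)).appTop.hom r) := ObjectProperty.hom_ext _ (hX L.obj).symm
    have h3 : (F ⋙ K355.incC Y).map (c • 𝟙 L) = smQ ((F ⋙ K355.incC Y).obj L)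
        ((Y ↘ Spec (.of R)).appTop.hom r) := by
      rw [Functor.comp_map, F.map_smul, F.map_id]
      exact ObjectProperty.hom_ext _ (hY (F.obj L).obj).symm
    rw [h3, comp_smQ, Functor.comp_map, h2] at h1
    exact (cancel_mono _).1 h1
  have h4 : F'.map (smQ M ((X ↘ Spec (.of R)).appTop.hom r)) =
      smQ (F'.obj M) ((Y ↘ Spec (.of R)).appTop.hom r) := by
    refine (K355.isGen_sub X).hom_ext fun L hL g => ?_
    have h5 := key ⟨L.obj, hL⟩
    have h6 : F'.map (smQ L ((X ↘ Spec (.of R)).appTop.hom r)) =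
      smQ (F'.obj L) ((Y ↘ Spec (.of R)).appTop.hom r) := h5
    rw [← F'.map_comp, comp_smQ, F'.map_comp, comp_smQ, h6]
  rw [h4]
  rfl

/-- The kernel of an exact functor on coherent modules. -/
theorem exists_coh_kernel [IsNoetherian X] [IsNoetherian Y]
    [IsAffineHom (pullback.diagonal (X ↘ Spec (.of R)))] {P : Scheme.{u}} {p : P ⟶ X} {q : P ⟶ Y}
    (sq : IsPullback p q (X ↘ Spec (.of R)) (Y ↘ Spec (.of R))) [HasInjectiveResolutions P.Modules]
    (F : (K355.cohP X).FullSubcategory ⥤ (K355.cohP Y).FullSubcategory)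
    [F.Additive] [F.Linear R] [PreservesFiniteLimits F] [PreservesFiniteColimits F] :
    ∃ (K : P.Modules) (F' : QCohCat.QCoh X ⥤ QCohCat.QCoh Y) (_ : F'.Additive)
      (_ : PreservesFiniteLimits F') (_ : PreservesFiniteColimits F')
      (_ : ∀ J : Type u, PreservesColimitsOfShape (Discrete J) F')
      (_s : FQ F' ≅ FMQ p q K),
      Nonempty (K355.incC X ⋙ F' ≅ F ⋙ K355.incC Y) ∧ Coh.IsQCoh K ∧ FlatMod.IsFlatOver p K ∧
      ∀ (n : ℕ) (M : QCohCat.QCoh X), IsZero ((Coh.Rpush q (n + 1)).obj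
        ((DCoh.tensorRightMod K).obj ((Scheme.Modules.pullback p).obj M.obj))) := by
  obtain ⟨hY1, hY2, hY3, hY4⟩ := K355.cohP_closed Y
  let := K355.abelianQCoh Y
  have hfY := K355.hasFilteredColimits_QCoh Y
  have hbY : HasFiniteBiproducts (QCohCat.QCoh Y) := HasFiniteBiproducts.of_hasFiniteProducts
  have haY : (K355.incC Y).Additive := ⟨rfl⟩
  obtain ⟨F', hF', ⟨e⟩⟩ := K355.coh_exists_extension X (F ⋙ K355.incC Y)
  have hadd : F'.Additive := by
    have h1 : (F ⋙ K355.incC Y).Additive := inferInstance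
    have h2 : (K355.incC X ⋙ F').Additive := Functor.additive_of_iso e.symm
    exact K355.coh_additive X F'
  have hcp : ∀ J : Type u, PreservesColimitsOfShape (Discrete J) F' := by
    intro J
    have h1 : (F ⋙ K355.incC Y).Additive := inferInstance
    have h2 : (K355.incC X ⋙ F').Additive := Functor.additive_of_iso e.symm
    exact K355.coh_coproducts X F' J
  have hl : PreservesFiniteLimits F' := by
    have h0 : PreservesFiniteLimits (K355.incC Y) :=
      K355.preservesFiniteLimits_ιOfLE (K355.cohP_le Y)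
    have h1 : PreservesFiniteLimits (F ⋙ K355.incC Y) := inferInstance
    have h2 : PreservesFiniteLimits (K355.incC X ⋙ F') := preservesFiniteLimits_of_natIso e.symm
    exact (K355.coh_leftExact X (fun J _ _ => K355.preservesLimits_colim_QCoh Y J) F').2
  have hr : PreservesFiniteColimits F' := by
    have h0 : PreservesFiniteColimits (K355.incC Y) :=
      K355.preservesFiniteColimits_ιOfLE (K355.cohP_le Y)
    have h1 : PreservesFiniteColimits (F ⋙ K355.incC Y) := inferInstance
    have h2 : PreservesFiniteColimits (K355.incC X ⋙ F') :=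
      preservesFiniteColimits_of_natIso e.symm
    exact (K355.coh_rightExact X F').2
  have hU : ∀ U : X.affineOpens, IsAffineHom U.1.ι := fun U =>
    haveI : IsAffine U.1.toScheme := U.2
    isAffineHom_of_diag (X ↘ Spec (.of R)) U.1.ι
  obtain ⟨K, hK, s, hs⟩ := exists_kernel sq F' (rlin_of_coh R F F' e)
  have hs' : ∀ (U : X.affineOpens) (L : QCohCat.QCoh U.1.toScheme),
      IsIso (s.app ((pushQ U.1.ι).obj L)) := fun U L =>
    haveI : IsAffine U.1.toScheme := U.2
    hs U.1.ι L
  have hfl := isFlatOver_kernel sq F' hK s hs'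
  have hiso := isIso_kernel F' hfl s hs'
  have hqc : QuasiCompact (X ↘ Spec (.of R)) := inferInstance
  have hqs : QuasiSeparated (X ↘ Spec (.of R)) := ⟨inferInstance⟩
  have hqc' : QuasiCompact q := MorphismProperty.of_isPullback sq hqc
  have hqs' : QuasiSeparated q := MorphismProperty.of_isPullback sq hqs
  exact ⟨K, F', hadd, hl, hr, hcp, @asIso _ _ _ _ s hiso, ⟨e⟩, hK, hfl,
    fun n M => isZero_Rpush_FM sq F' hK hfl s n M⟩

end K350.Ker
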