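import Groth.Agent.FunMor.K350.PO
import Groth.Agent.FunMor.K350.Quot
import Groth.Agent.FunMor.K355.ProjAff
import Groth.Agent.FunMor.K355.FMBase
import Groth.Agent.Ega1.PullFormal
import Groth.Prelude.Def_KLin

/-!
# Descent of modules along an affine morphism

`q : Z ⟶ Y` affine, `A` a ring acting on `Z` such that `Γ(q⁻¹V) = A ⊗_R Γ(V)` for `V` affine open. A quasi-coherent
module on `Y` with a compatible action of `A` is the direct image of a quasi-coherent module on `Z`.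
-/

set_option autoImplicit false
universe u
open CategoryTheory CategoryTheory.Limits AlgebraicGeometry

namespace K350.Desc

open Groth.Agent.FormalB.ModPow Groth.Agent.CohqA.BaseChangeMod

variable {Y Z : Scheme.{u}} (q : Z ⟶ Y) {R A : Type u} [CommRing R] [CommRing A]
  (rA : R →+* A) (rY : R →+* Γ(Y, ⊤)) (σ : A →+* Γ(Z, ⊤))

/-- `Γ(q⁻¹V) = A ⊗_R Γ(V)` for all affine opens `V`. -/
def IsProd : Prop := ∀ V : Y.Opens, IsAffineOpen V →
  IsPushout (CommRingCat.ofHom rA) (CommRingCat.ofHom ((resΓ Y V).comp rY))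
    (CommRingCat.ofHom ((resΓ Z (q ⁻¹ᵁ V)).comp σ)) (CommRingCat.ofHom (q.app V).hom)

variable {q rA rY σ}

variable (A) in
/-- An action of `A` on a module. -/
structure Act (N : Y.Modules) where
  ρ : A → (N ⟶ N)
  one : ρ 1 = 𝟙 N
  mul : ∀ a b, ρ (a * b) = ρ a ≫ ρ b
  add : ∀ a b, ρ (a + b) = ρ a + ρ b

/-- The action on sections. -/
noncomputable def Act.sec {N : Y.Modules} (ρ : Act A N) (V : Y.Opens) :
    A →+* AddMonoid.End Γ(N, V) where
  toFun a := ((ρ.ρ a).app V).hom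
  map_one' := by rw [ρ.one]; rfl
  map_mul' a b := by
    rw [mul_comm a b, ρ.mul]
    rfl
  map_zero' := by
    have h : ρ.ρ 0 = 0 := by
      have h1 := ρ.add 0 0
      rw [add_zero] at h1
      simpa using h1
    rw [h]
    rfl
  map_add' a b := by rw [ρ.add]; rfl

theorem Act.sec_apply {N : Y.Modules} (ρ : Act A N) (V : Y.Opens) (a : A) (n : Γ(N, V)) :
    ρ.sec V a n = (ρ.ρ a).app V n := rfl

/-- `ψ : N ⟶ q_* G` is linear. -/
def IsLin (q : Z ⟶ Y) (σ : A →+* Γ(Z, ⊤)) {N : Y.Modules} (ρ : Act A N) {G : Z.Modules}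
    (ψ : N ⟶ (Scheme.Modules.pushforward q).obj G) : Prop :=
  ∀ a, ρ.ρ a ≫ ψ = ψ ≫ (Scheme.Modules.pushforward q).map (Formal.smulModΓ G (σ a))

theorem pullSecHom_naturality {M N : Y.Modules} (φ : M ⟶ N) (V : Y.Opens) (m : Γ(M, V)) :
    ((Scheme.Modules.pullback q).map φ).app (q ⁻¹ᵁ V) (K355.pullSecHom q M V m) =
      K355.pullSecHom q N V (φ.app V m) := by
  have h := (Scheme.Modules.pullbackPushforwardAdjunction q).unit.naturality φ
  exact congr(($(h).app V m)).symm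

/-- Descent along an affine morphism. -/
theorem exists_desc [IsAffineHom q] (hP : IsProd q rA rY σ) (N : Y.Modules) (hN : Coh.IsQCoh N)
    (ρ : Act A N) (hR : ∀ r, ρ.ρ (rA r) = Formal.smulModΓ N (rY r)) :
    ∃ (T : Z.Modules) (_ : Coh.IsQCoh T) (η : N ⟶ (Scheme.Modules.pushforward q).obj T),
      IsIso η ∧ IsLin q σ ρ η ∧
      ∀ (G : Z.Modules) (ψ : N ⟶ (Scheme.Modules.pushforward q).obj G), IsLin q σ ρ ψ →
        ∃! φ : T ⟶ G, η ≫ (Scheme.Modules.pushforward q).map φ = ψ := by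
  have hN' : N.IsQuasicoherent := hN
  let E : QCohCat.QCoh Z := ⟨(Scheme.Modules.pullback q).obj N, K355.isQCoh_pull q N hN⟩
  let δ : A → (E ⟶ E) := fun a => ObjectProperty.homMk
    (Formal.smulModΓ E.obj (σ a) - (Scheme.Modules.pullback q).map (ρ.ρ a))
  obtain ⟨T, π, h1, h2, h3, h4⟩ := Quot.exists_quot E δ
  let adj := Scheme.Modules.pullbackPushforwardAdjunction q
  let η : N ⟶ (Scheme.Modules.pushforward q).obj T.obj := adj.homEquiv _ _ π.hom
  have hδ : ∀ {G : Z.Modules} (f : E.obj ⟶ G) (a : A), (δ a).hom ≫ f = 0 ↔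
      Formal.smulModΓ E.obj (σ a) ≫ f = (Scheme.Modules.pullback q).map (ρ.ρ a) ≫ f := by
    intro G f a
    change (_ - _) ≫ f = 0 ↔ _
    rw [Preadditive.sub_comp, sub_eq_zero]
  have hlin : ∀ {G : Z.Modules} (f : E.obj ⟶ G), (∀ a, (δ a).hom ≫ f = 0) ↔
      IsLin q σ ρ (adj.homEquiv _ _ f) := by
    intro G f
    refine forall_congr' fun a => ?_
    rw [hδ, ← KLin.comp_smulModΓ, ← adj.homEquiv_naturality_left, ← adj.homEquiv_naturality_right]
    exact ⟨fun h => congrArg _ h.symm, fun h => (adj.homEquiv _ _).injective h.symm⟩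
  have hη : IsLin q σ ρ η := (hlin π.hom).1 fun a => congrArg (·.hom) (h1 a)
  refine ⟨T.obj, T.property, η, ?_, hη, fun G ψ hψ => ?_⟩
  · have hpT : Coh.IsQCoh ((Scheme.Modules.pushforward q).obj T.obj) :=
      Groth.Agent.Ega1.QcqsPush.isQCoh_pushforward q T.obj T.property
    refine Groth.Agent.Models2.QCohPush.isIso_of_affine _ fun V => ?_
    have hO : IsAffineOpen (q ⁻¹ᵁ V.1) := V.2.preimage q
    have hηV : ∀ n : Γ(N, V.1), η.app V.1 n = π.hom.app (q ⁻¹ᵁ V.1) (K355.pullSecHom q N V.1 n) := by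
      intro n
      have h5 : η = adj.unit.app N ≫ (Scheme.Modules.pushforward q).map π.hom :=
        adj.homEquiv_unit _ _ _
      rw [h5]
      rfl
    have hbc := K355.pullSec_isBC q N V.2 hO
    have hsec : ∀ (a : A) (x : Γ(E.obj, q ⁻¹ᵁ V.1)),
        π.hom.app (q ⁻¹ᵁ V.1) ((resΓ Z (q ⁻¹ᵁ V.1) (σ a)) • x) =
          π.hom.app (q ⁻¹ᵁ V.1) (((Scheme.Modules.pullback q).map (ρ.ρ a)).app (q ⁻¹ᵁ V.1) x) := by
      intro a x
      have h5 := (hδ π.hom a).1 (congrArg (·.hom) (h1 a))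
      exact congr(($(h5).app (q ⁻¹ᵁ V.1) x))
    obtain ⟨θ, hθA, hθB⟩ := PO.exists_endLift (hP V.1 V.2) (N := Γ(N, V.1)) (ρ.sec V.1)
      (fun a b n => Scheme.Modules.Hom.app_smul (ρ.ρ a) b n)
      (fun r n => by
        rw [Act.sec_apply, hR]
        rfl)
    constructor
    · -- injectivity
      let _ : Module Γ(Z, q ⁻¹ᵁ V.1) Γ(N, V.1) := Module.compHom Γ(N, V.1) θ
      obtain ⟨r, hr, -⟩ := hbc.lift Γ(N, V.1) (AddMonoidHom.id _) (fun b n => (hθB b n).symm)
      have hcomm : ∀ (a : A) (x : Γ(E.obj, q ⁻¹ᵁ V.1)),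
          r (((Scheme.Modules.pullback q).map (ρ.ρ a)).app (q ⁻¹ᵁ V.1) x) =
            (resΓ Z (q ⁻¹ᵁ V.1) (σ a)) • r x := by
        intro a
        let g₁ : Γ(E.obj, q ⁻¹ᵁ V.1) →ₗ[Γ(Z, q ⁻¹ᵁ V.1)] Γ(N, V.1) :=
          { toFun := fun x => r (((Scheme.Modules.pullback q).map (ρ.ρ a)).app (q ⁻¹ᵁ V.1) x)
            map_add' := fun x y => by
              rw [map_add, map_add]
            map_smul' := fun c x => by
              rw [Scheme.Modules.Hom.app_smul, map_smul]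
              rfl }
        let g₂ : Γ(E.obj, q ⁻¹ᵁ V.1) →ₗ[Γ(Z, q ⁻¹ᵁ V.1)] Γ(N, V.1) :=
          (resΓ Z (q ⁻¹ᵁ V.1) (σ a)) • r
        have hg : g₁ = g₂ := hbc.hom_ext fun n => by
          change r (((Scheme.Modules.pullback q).map (ρ.ρ a)).app (q ⁻¹ᵁ V.1)
            (K355.pullSecHom q N V.1 n)) = (resΓ Z (q ⁻¹ᵁ V.1) (σ a)) • r (K355.pullSecHom q N V.1 n)
          rw [pullSecHom_naturality, hr, hr]
          change (ρ.ρ a).app V.1 n = θ (resΓ Z (q ⁻¹ᵁ V.1) (σ a)) n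
          exact (congrArg (fun s : AddMonoid.End Γ(N, V.1) => s n) (hθA a)).symm
        exact fun x => LinearMap.congr_fun hg x
      obtain ⟨r', hr'⟩ := h3 (q ⁻¹ᵁ V.1) hO Γ(N, V.1) r.toAddMonoidHom (fun a x => by
        change r ((resΓ Z (q ⁻¹ᵁ V.1) (σ a)) • x -
          ((Scheme.Modules.pullback q).map (ρ.ρ a)).app (q ⁻¹ᵁ V.1) x) = 0
        rw [map_sub, hcomm, map_smul, sub_self])
      intro n n' hnn
      have h6 : ∀ n, r' (η.app V.1 n) = n := fun n => by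
        rw [hηV]
        exact (hr' _).trans (hr n)
      rw [← h6 n, hnn, h6]
    · -- surjectivity
      intro t
      obtain ⟨x, rfl⟩ := h4 (q ⁻¹ᵁ V.1) hO t
      refine PO.isBC_induction hbc (P := fun x => ∃ n, η.app V.1 n = π.hom.app (q ⁻¹ᵁ V.1) x)
        ⟨0, by rw [map_zero, map_zero]; rfl⟩ ?_ ?_ x
      · rintro x y ⟨n, hn⟩ ⟨m, hm⟩
        exact ⟨n + m, by rw [map_add, map_add, hn, hm]; rfl⟩
      · intro c n
        refine PO.induction (hP V.1 V.2)
          (P := fun c => ∃ m, η.app V.1 m =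
            π.hom.app (q ⁻¹ᵁ V.1) (c • K355.pullSecHom q N V.1 n)) ?_ ?_ ?_ c
        · exact ⟨0, by rw [map_zero, zero_smul, map_zero]; rfl⟩
        · rintro c c' ⟨m, hm⟩ ⟨m', hm'⟩
          exact ⟨m + m', by rw [map_add, add_smul, map_add, hm, hm']; rfl⟩
        · intro a b
          refine ⟨(ρ.ρ a).app V.1 (b • n), ?_⟩
          rw [hηV, ← pullSecHom_naturality, ← hsec, mul_smul]
          congr 2
          exact hbc.map_smul b n
  · obtain ⟨g, hg, hu⟩ := h2 ((adj.homEquiv _ _).symm ψ) ((hlin _).2 (by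
      rw [Equiv.apply_symm_apply]
      exact hψ))
    have key : ∀ g : T.obj ⟶ G, η ≫ (Scheme.Modules.pushforward q).map g = ψ ↔
        π.hom ≫ g = (adj.homEquiv _ _).symm ψ := fun g => by
      rw [Equiv.eq_symm_apply, adj.homEquiv_naturality_right]
    exact ⟨g, (key g).2 hg, fun g' hg' => hu g' ((key g').1 hg')⟩

end K350.Desc
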