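import Mathlib.CategoryTheory.Limits.Preserves.Shapes.Kernels
import Mathlib.CategoryTheory.Abelian.Exact
import Groth.Agent.Cohder.RDAcyc

/-!
# Comparison of left exact functors through embeddings
-/

set_option autoImplicit false
universe u v' u' v'' u''
open CategoryTheory CategoryTheory.Limits

namespace K350.Embed

section

variable {C : Type u''} [Category.{v''} C] [Abelian C] {D : Type u'} [Category.{v'} D]
  [Preadditive D] {F G : C ⥤ D} [F.Additive] [G.Additive] (α : F ⟶ G)

/-- Natural transformations between additive functors and direct sums. -/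
theorem isIso_biproduct {n : ℕ} (E : Fin n → C) [HasBiproduct E] (h : ∀ i, IsIso (α.app (E i))) :
    IsIso (α.app (⨁ E)) := by
  have htot : ∑ i, biproduct.π E i ≫ biproduct.ι E i = 𝟙 (⨁ E) := biproduct.total
  refine ⟨∑ i, G.map (biproduct.π E i) ≫ inv (α.app (E i)) ≫ F.map (biproduct.ι E i), ?_, ?_⟩
  · rw [Preadditive.comp_sum, ← F.map_id, ← htot, F.map_sum]
    refine Finset.sum_congr rfl fun i _ => ?_
    rw [← α.naturality_assoc, IsIso.hom_inv_id_assoc, F.map_comp]
  · rw [Preadditive.sum_comp, ← G.map_id, ← htot, G.map_sum]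
    refine Finset.sum_congr rfl fun i _ => ?_
    rw [Category.assoc, Category.assoc, α.naturality, IsIso.inv_hom_id_assoc, G.map_comp]

theorem isZero_biproduct {n : ℕ} (E : Fin n → C) [HasBiproduct E] (h : ∀ i, IsZero (F.obj (E i))) :
    IsZero (F.obj (⨁ E)) := by
  have htot : ∑ i, biproduct.π E i ≫ biproduct.ι E i = 𝟙 (⨁ E) := biproduct.total
  rw [IsZero.iff_id_eq_zero, ← F.map_id, ← htot, F.map_sum]
  refine Finset.sum_eq_zero fun i _ => ?_
  rw [F.map_comp, (h i).eq_of_tgt (F.map (biproduct.π E i)) 0, zero_comp]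

/-- A natural transformation between left exact functors is an isomorphism if every object embeds in one where it
is one. -/
theorem isIso_of_embedding [PreservesFiniteLimits F] [PreservesFiniteLimits G]
    (h : ∀ M : C, ∃ (E : C) (i : M ⟶ E), Mono i ∧ IsIso (α.app E)) (M : C) : IsIso (α.app M) := by
  obtain ⟨E, i, hi, hE⟩ := h M
  obtain ⟨E', j, hj, hE'⟩ := h (cokernel i)
  let g : E ⟶ E' := cokernel.π i ≫ j
  have w : i ≫ g = 0 := by rw [← Category.assoc, cokernel.condition, zero_comp]
  have hl : IsLimit (KernelFork.ofι i w) := by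
    have h1 : IsLimit (KernelFork.ofι i (cokernel.condition i)) :=
      Abelian.monoIsKernelOfCokernel _ (colimit.isColimit _)
    exact isKernelCompMono h1 j rfl
  have hF := isLimitForkMapOfIsLimit' F w hl
  have hG := isLimitForkMapOfIsLimit' G w hl
  have wF : F.map i ≫ F.map g = 0 := by rw [← F.map_comp, w, F.map_zero]
  have wG : G.map i ≫ G.map g = 0 := by rw [← G.map_comp, w, G.map_zero]
  have hmF : Mono (F.map i) := inferInstance
  have hmG : Mono (G.map i) := inferInstance
  have h1 : (G.map i ≫ inv (α.app E)) ≫ F.map g = 0 := by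
    have h2 : inv (α.app E) ≫ F.map g = G.map g ≫ inv (α.app E') := by
      rw [IsIso.inv_comp_eq, ← Category.assoc, IsIso.eq_comp_inv, α.naturality]
    rw [Category.assoc, h2, ← Category.assoc, wG, zero_comp]
  obtain ⟨β, hβ⟩ := KernelFork.IsLimit.lift' hF _ h1
  have hβ' : β ≫ F.map i = G.map i ≫ inv (α.app E) := hβ
  refine ⟨β, ?_, ?_⟩
  · rw [← cancel_mono (F.map i), Category.assoc, hβ', ← α.naturality_assoc, IsIso.hom_inv_id,
      Category.comp_id, Category.id_comp]
  · rw [← cancel_mono (G.map i), Category.assoc, ← α.naturality, ← Category.assoc, hβ',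
      Category.assoc, IsIso.inv_hom_id, Category.comp_id, Category.id_comp]

end

section

open Groth.Agent.Cohder

variable {C : Type u} [Category.{v''} C] [Abelian C] [HasInjectiveResolutions C]
variable {D : Type u'} [Category.{v'} D] [Abelian D] (F : C ⥤ D) [F.Additive]
variable {S : ShortComplex C} (hS : S.ShortExact)

include hS in
theorem isZero_one_X₁ [PreservesFiniteLimits F] (hepi : Epi (F.map S.g))
    (h₂ : IsZero ((F.rightDerived 1).obj S.X₂)) : IsZero ((F.rightDerived 1).obj S.X₁) := by
  obtain ⟨δ, hδ⟩ := (RDLES.exists_les F hS).2.2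
  obtain ⟨w₁, w₂, h, h'⟩ := hδ 0
  have h6 : (F.rightDerived 0).map S.g ≫ F.rightDerivedZeroIsoSelf.hom.app S.X₃ =
    F.rightDerivedZeroIsoSelf.hom.app S.X₂ ≫ F.map S.g := F.rightDerivedZeroIsoSelf.hom.naturality _
  have h7 : Epi ((F.rightDerived 0).map S.g) := by
    have h8 : Epi ((F.rightDerived 0).map S.g ≫ F.rightDerivedZeroIsoSelf.hom.app S.X₃) := by
      rw [h6]
      infer_instance
    have h9 : (F.rightDerived 0).map S.g = ((F.rightDerived 0).map S.g ≫
      F.rightDerivedZeroIsoSelf.hom.app S.X₃) ≫ inv (F.rightDerivedZeroIsoSelf.hom.app S.X₃) := by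
      simp
    rw [h9]
    infer_instance
  have h10 : δ 0 = 0 := by
    rw [← cancel_epi ((F.rightDerived 0).map S.g), w₁, comp_zero]
  exact h'.isZero_of_both_zeros h10 (h₂.eq_of_tgt _ _)

end

end K350.Embed
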