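import Groth.Agent.FunMor.K350.WattsQ
import Mathlib.RingTheory.Flat.EquationalCriterion
import Mathlib.Algebra.Category.Grp.Abelian
import Mathlib.Algebra.Homology.ShortComplex.Ab

/-!
# Flatness of the value at the generator of an exact functor preserving direct sums
-/

set_option autoImplicit false
universe u v' u' v'' u''
open CategoryTheory CategoryTheory.Limits AlgebraicGeometry

namespace K350.FlatEx

open K350.WattsQ

section Gen

variable {A : Type u} [CommRing A] {C : Type u''} [Category.{v''} C] [Preadditive C]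
  (e : ModuleCat.{u} A ≌ C) [e.functor.Additive] {P : C} (i : e.functor.obj (ModuleCat.of A A) ≅ P)
  {B : Type u'} [Category.{v'} B] [Preadditive B]
  (F : C ⥤ B) [F.Additive] [PreservesFiniteColimits F]
  [∀ J : Type u, PreservesColimitsOfShape (Discrete J) F]

include i in
theorem hom_ext_gen (M : C) {Z : B} {f f' : F.obj M ⟶ Z}
    (h : ∀ g : P ⟶ M, F.map g ≫ f = F.map g ≫ f') : f = f' := by
  have : PreservesFiniteColimits (e.functor ⋙ F) := comp_preservesFiniteColimits _ _
  let c : e.functor.obj (e.inverse.obj M) ≅ M := e.counitIso.app M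
  have key := K355.existsUnique_desc_mod (e.functor ⋙ F) (e.inverse.obj M) (Z := Z)
    (fun x => (e.functor ⋙ F).map (K355.ptM x) ≫ F.map c.hom ≫ f)
    (fun x y => by rw [ptM_add, Functor.map_add, Preadditive.add_comp])
    (fun a x => by rw [ptM_smul, Functor.map_comp, Category.assoc])
  have h1 : F.map c.hom ≫ f = F.map c.hom ≫ f' := by
    refine key.unique (fun x => rfl) (fun x => ?_)
    have h2 := h (i.inv ≫ e.functor.map (K355.ptM x) ≫ c.hom)
    rw [F.map_comp, F.map_comp, Category.assoc, Category.assoc, Category.assoc, Category.assoc,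
      cancel_epi] at h2
    exact h2.symm
  exact (cancel_epi (F.map c.hom)).1 h1

end Gen

section Rel

variable {C : Type u''} [Category.{v''} C] [Abelian C] {P : C} (Φ : C ⥤ AddCommGrpCat.{u})
  [Φ.Additive]

/-- Elements of `Φ M` which are sums of images of elements of `Φ P`. -/
def IsGenBy (P : C) {M : C} (z : Φ.obj M) : Prop :=
  ∃ (k : ℕ) (g : Fin k → (P ⟶ M)) (w : Fin k → Φ.obj P), z = ∑ j, Φ.map (g j) (w j)

omit [Abelian C] [Φ.Additive] in
theorem isGenBy_all (hgen : ∀ (M : C) {Z : AddCommGrpCat.{u}} (f f' : Φ.obj M ⟶ Z),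
    (∀ g : P ⟶ M, Φ.map g ≫ f = Φ.map g ≫ f') → f = f') {M : C} (z : Φ.obj M) :
    IsGenBy Φ P z := by
  let S : AddSubgroup (Φ.obj M) :=
    { carrier := {z | IsGenBy Φ P z}
      zero_mem' := ⟨0, Fin.elim0, Fin.elim0, by simp⟩
      add_mem' := by
        rintro a b ⟨k, g, w, rfl⟩ ⟨k', g', w', rfl⟩
        refine ⟨k + k', Fin.append g g', Fin.append w w', ?_⟩
        rw [Fin.sum_univ_add]
        simp
      neg_mem' := by
        rintro a ⟨k, g, w, rfl⟩
        refine ⟨k, g, fun j => - w j, ?_⟩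
        simp }
  let π : Φ.obj M ⟶ AddCommGrpCat.of (Φ.obj M ⧸ S) := AddCommGrpCat.ofHom (QuotientAddGroup.mk' S)
  have h1 : π = 0 := by
    refine hgen M π 0 fun g => ?_
    ext w
    rw [comp_zero]
    change ((Φ.map g w : Φ.obj M) : Φ.obj M ⧸ S) = 0
    rw [QuotientAddGroup.eq_zero_iff]
    exact ⟨1, fun _ => g, fun _ => w, by simp⟩
  have h2 : (z : Φ.obj M ⧸ S) = 0 := congr($h1 z)
  rw [QuotientAddGroup.eq_zero_iff] at h2
  exact h2

/-- The equational criterion for an exact functor. -/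
theorem exists_trivial_relation [PreservesFiniteLimits Φ] [PreservesFiniteColimits Φ]
    (hgen : ∀ (M : C) {Z : AddCommGrpCat.{u}} (f f' : Φ.obj M ⟶ Z),
      (∀ g : P ⟶ M, Φ.map g ≫ f = Φ.map g ≫ f') → f = f') {l : ℕ} (f : Fin l → (P ⟶ P))
    (y : Fin l → Φ.obj P) (h : ∑ i, Φ.map (f i) (y i) = 0) :
    ∃ (k : ℕ) (a : Fin l → Fin k → (P ⟶ P)) (w : Fin k → Φ.obj P),
      (∀ i, y i = ∑ j, Φ.map (a i j) (w j)) ∧ ∀ j, ∑ i, a i j ≫ f i = 0 := by
  have hbp : HasFiniteBiproducts C := Abelian.hasFiniteBiproducts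
  let L : C := ⨁ fun _ : Fin l => P
  let fL : L ⟶ P := biproduct.desc f
  let x : Φ.obj L := ∑ i, Φ.map (biproduct.ι (fun _ : Fin l => P) i) (y i)
  have hx : Φ.map fL x = 0 := by
    rw [map_sum, ← h]
    refine Finset.sum_congr rfl fun i _ => ?_
    rw [← ConcreteCategory.comp_apply, ← Φ.map_comp, biproduct.ι_desc]
  let T : ShortComplex C := ShortComplex.mk (kernel.ι fL) fL (kernel.condition fL)
  have hT : T.Exact := ShortComplex.exact_kernel fL
  have hT' : (T.map Φ).Exact := hT.map Φ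
  rw [ShortComplex.ab_exact_iff] at hT'
  obtain ⟨z, hz⟩ := hT' x hx
  obtain ⟨k, g, w, rfl⟩ := isGenBy_all Φ hgen z
  refine ⟨k, fun i j => g j ≫ kernel.ι fL ≫ biproduct.π (fun _ : Fin l => P) i, w, fun i => ?_, fun j => ?_⟩
  · have h1 : y i = Φ.map (biproduct.π (fun _ : Fin l => P) i) x := by
      rw [map_sum, Finset.sum_eq_single i]
      · rw [← ConcreteCategory.comp_apply, ← Φ.map_comp, biproduct.ι_π_self, Φ.map_id]
        rfl
      · intro b _ hb
        rw [← ConcreteCategory.comp_apply, ← Φ.map_comp, biproduct.ι_π_ne _ hb, Φ.map_zero]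
        rfl
      · intro hi
        exact (hi (Finset.mem_univ i)).elim
    rw [h1, ← hz]
    change Φ.map _ (Φ.map (kernel.ι fL) _) = _
    rw [map_sum, map_sum]
    refine Finset.sum_congr rfl fun j _ => ?_
    rw [Φ.map_comp, Φ.map_comp]
    rfl
  · have h1 : g j ≫ kernel.ι fL ≫ fL = 0 := by rw [kernel.condition, comp_zero]
    have h2 : fL = ∑ i, biproduct.π (fun _ : Fin l => P) i ≫ f i := biproduct.desc_eq
    have h3 := congrArg (fun t => g j ≫ kernel.ι fL ≫ t) h2
    simp only [Preadditive.comp_sum] at h3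
    rw [h1] at h3
    refine Eq.trans ?_ h3.symm
    refine Finset.sum_congr rfl fun i _ => ?_
    rw [Category.assoc, Category.assoc]

end Rel

end K350.FlatEx
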