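import Groth.Agent.FunMor.K350.KerLoc
import Groth.Agent.FunMor.K350.Push
import Groth.Agent.Fga.UnitRestrict
import Groth.Agent.Ega1.QcqsPush

/-!
# Isomorphisms over an open, modules supported (as direct images) on an open, gluing of morphisms
-/

set_option autoImplicit false
universe u
open CategoryTheory CategoryTheory.Limits AlgebraicGeometry MonoidalCategory

namespace K350.Ker

open Groth.Agent.FormalB.ModPow K350.WattsQ K350.Desc
open Groth.Agent.Models2.QCohPush Groth.Agent.EGA2.K32 Groth.Agent.Fdesc.LocGen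
open scoped Groth.Agent.Dcoh.MonCat

variable {P : Scheme.{u}}

/-- `φ` is an isomorphism over `O`. -/
def IsoOn (O : P.Opens) {M N : P.Modules} (φ : M ⟶ N) : Prop :=
  IsIso ((Scheme.Modules.restrictFunctor O.ι).map φ)

theorem isoOn_of_bij {O : P.Opens} {M N : P.Modules} (φ : M ⟶ N)
    (h : ∀ V : P.Opens, V ≤ O → Function.Bijective (φ.app V)) : IsoOn O φ := by
  unfold IsoOn
  rw [Scheme.Modules.Hom.isIso_iff_isIso_app]
  intro U
  rw [ConcreteCategory.isIso_iff_bijective]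
  exact h (O.ι ''ᵁ U) (O.ι_image_le U)

theorem IsoOn.bij {O : P.Opens} {M N : P.Modules} {φ : M ⟶ N} (hφ : IsoOn O φ) {V : P.Opens}
    (hV : V ≤ O) : Function.Bijective (φ.app V) := by
  have hφ' : IsIso ((Scheme.Modules.restrictFunctor O.ι).map φ) := hφ
  have h : IsIso (((Scheme.Modules.restrictFunctor O.ι).map φ).app (O.ι ⁻¹ᵁ V)) := inferInstance
  have h2 : IsIso (φ.app (O.ι ''ᵁ (O.ι ⁻¹ᵁ V))) := h
  have h3 : O.ι ''ᵁ (O.ι ⁻¹ᵁ V) = V := by
    rw [Scheme.Hom.image_preimage_eq_opensRange_inf, Scheme.Opens.opensRange_ι]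
    exact inf_eq_right.2 hV
  rw [h3] at h2
  exact (ConcreteCategory.isIso_iff_bijective _).1 h2

theorem IsoOn.mono {O O' : P.Opens} (hO : O' ≤ O) {M N : P.Modules} {φ : M ⟶ N} (h : IsoOn O φ) :
    IsoOn O' φ := isoOn_of_bij φ fun _ hV => h.bij (hV.trans hO)

theorem IsoOn.comp {O : P.Opens} {M N L : P.Modules} {φ : M ⟶ N} {ψ : N ⟶ L} (h : IsoOn O φ)
    (h' : IsoOn O ψ) : IsoOn O (φ ≫ ψ) := by
  unfold IsoOn at *
  rw [Functor.map_comp]
  infer_instance

theorem isoOn_of_isIso (O : P.Opens) {M N : P.Modules} (φ : M ⟶ N) [IsIso φ] : IsoOn O φ := by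
  unfold IsoOn
  infer_instance

theorem IsoOn.of_comp_left {O : P.Opens} {M N L : P.Modules} {φ : M ⟶ N} {ψ : N ⟶ L}
    (h : IsoOn O φ) (h' : IsoOn O (φ ≫ ψ)) : IsoOn O ψ := by
  unfold IsoOn at *
  rw [Functor.map_comp] at h'
  exact IsIso.of_isIso_comp_left ((Scheme.Modules.restrictFunctor O.ι).map φ) _

theorem IsoOn.of_comp_right {O : P.Opens} {M N L : P.Modules} {φ : M ⟶ N} {ψ : N ⟶ L}
    (h : IsoOn O ψ) (h' : IsoOn O (φ ≫ ψ)) : IsoOn O φ := by
  unfold IsoOn at *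
  rw [Functor.map_comp] at h'
  exact IsIso.of_isIso_comp_right _ ((Scheme.Modules.restrictFunctor O.ι).map ψ)

theorem isIso_of_isoOn {ι : Sort*} (O : ι → P.Opens) (hO : ∀ x : P, ∃ i, x ∈ O i) {M N : P.Modules}
    (φ : M ⟶ N) (h : ∀ i, IsoOn (O i) φ) : IsIso φ :=
  Groth.Agent.Fga.UnitRestrict.isIso_of_locally φ fun x => by
    obtain ⟨i, hi⟩ := hO x
    exact ⟨O i, hi, h i⟩

theorem isoOn_iff_pullback (O : P.Opens) {M N : P.Modules} (φ : M ⟶ N) :
    IsoOn O φ ↔ IsIso ((Scheme.Modules.pullback O.ι).map φ) :=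
  NatIso.isIso_map_iff (Scheme.Modules.restrictFunctorIsoPullback O.ι) φ

theorem isIso_map_whiskerLeft {Q : Scheme.{u}} (j : Q ⟶ P) (A : P.Modules) {M N : P.Modules}
    (φ : M ⟶ N) [IsIso ((Scheme.Modules.pullback j).map φ)] :
    IsIso ((Scheme.Modules.pullback j).map (A ◁ φ)) := by
  letI := Groth.Agent.Dcoh.MonPull.monPull j
  have h := Functor.LaxMonoidal.μ_natural_right (F := Scheme.Modules.pullback j) A φ
  have h1 : IsIso ((Scheme.Modules.pullback j).obj A ◁ (Scheme.Modules.pullback j).map φ) :=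
    inferInstance
  have h2 : IsIso (Functor.LaxMonoidal.μ (Scheme.Modules.pullback j) A M) :=
    (Functor.Monoidal.μIso (Scheme.Modules.pullback j) A M).isIso_hom
  have h3 : IsIso (Functor.LaxMonoidal.μ (Scheme.Modules.pullback j) A N) :=
    (Functor.Monoidal.μIso (Scheme.Modules.pullback j) A N).isIso_hom
  have h4 : IsIso (Functor.LaxMonoidal.μ (Scheme.Modules.pullback j) A M ≫
      (Scheme.Modules.pullback j).map (A ◁ φ)) := by
    rw [← h]
    infer_instance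
  exact IsIso.of_isIso_comp_left (Functor.LaxMonoidal.μ (Scheme.Modules.pullback j) A M) _

theorem IsoOn.whiskerLeft {O : P.Opens} (A : P.Modules) {M N : P.Modules} {φ : M ⟶ N}
    (h : IsoOn O φ) : IsoOn O (A ◁ φ) := by
  rw [isoOn_iff_pullback] at h ⊢
  exact isIso_map_whiskerLeft O.ι A φ

section Loc

/-- The unit of restriction and direct image. -/
noncomputable abbrev nu (O : P.Opens) (M : P.Modules) :
    M ⟶ (Scheme.Modules.pushforward O.ι).obj ((Scheme.Modules.restrictFunctor O.ι).obj M) :=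
  (Scheme.Modules.restrictAdjunction O.ι).unit.app M

theorem isoOn_nu (O : P.Opens) (M : P.Modules) : IsoOn O (nu O M) :=
  IsIso.of_isIso_fac_right ((Scheme.Modules.restrictAdjunction O.ι).left_triangle_components M)

theorem isLoc_nu (O : P.Opens) (M : P.Modules) (hM : Coh.IsQCoh M) :
    IsLoc O ((Scheme.Modules.pushforward O.ι).obj ((Scheme.Modules.restrictFunctor O.ι).obj M)) :=
  ⟨_, Groth.Agent.PerfA.QCohSerre.isQCoh_restrict O.ι hM, ⟨Iso.refl _⟩⟩

theorem IsLoc.isQCoh {O : P.Opens} [QuasiCompact O.ι] {E : P.Modules} (h : IsLoc O E) :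
    Coh.IsQCoh E := by
  obtain ⟨E', hE', ⟨e⟩⟩ := h
  exact Groth.Agent.Ega1.QCohLoc.isQCoh_of_iso e.symm
    (Groth.Agent.Ega1.QcqsPush.isQCoh_pushforward O.ι _ hE')

theorem IsLoc.exists_hom {O : P.Opens} {E : P.Modules} (h : IsLoc O E) {A B : P.Modules}
    {φ : A ⟶ B} (hφ : IsoOn O φ) (s : A ⟶ E) : ∃ ψ : B ⟶ E, φ ≫ ψ = s := by
  obtain ⟨E', -, ⟨e⟩⟩ := h
  have h1 : IsIso ((Scheme.Modules.restrictFunctor O.ι).map φ) := hφ
  let adj := Scheme.Modules.restrictAdjunction O.ι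
  refine ⟨(adj.homEquiv _ _ (inv ((Scheme.Modules.restrictFunctor O.ι).map φ) ≫
    (adj.homEquiv _ _).symm (s ≫ e.hom))) ≫ e.inv, ?_⟩
  rw [← Category.assoc, ← adj.homEquiv_naturality_left, IsIso.hom_inv_id_assoc, Equiv.apply_symm_apply,
    Category.assoc, e.hom_inv_id, Category.comp_id]

theorem IsLoc.hom_ext {O : P.Opens} {E : P.Modules} (h : IsLoc O E) {A B : P.Modules}
    {φ : A ⟶ B} (hφ : IsoOn O φ) {ψ ψ' : B ⟶ E} (e : φ ≫ ψ = φ ≫ ψ') : ψ = ψ' := by
  obtain ⟨E', -, ⟨i⟩⟩ := h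
  have h1 : IsIso ((Scheme.Modules.restrictFunctor O.ι).map φ) := hφ
  let adj := Scheme.Modules.restrictAdjunction O.ι
  rw [← cancel_mono i.hom]
  apply (adj.homEquiv _ _).symm.injective
  rw [← cancel_epi ((Scheme.Modules.restrictFunctor O.ι).map φ)]
  rw [← adj.homEquiv_naturality_left_symm, ← adj.homEquiv_naturality_left_symm, ← Category.assoc, e,
    Category.assoc]

theorem IsLoc.isIso {O : P.Opens} {A B : P.Modules} (hA : IsLoc O A) (hB : IsLoc O B)
    {φ : A ⟶ B} (hφ : IsoOn O φ) : IsIso φ := by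
  obtain ⟨ψ, hψ⟩ := hA.exists_hom hφ (𝟙 A)
  refine ⟨ψ, hψ, hB.hom_ext hφ ?_⟩
  rw [← Category.assoc, hψ, Category.id_comp, Category.comp_id]

theorem IsLoc.of_iso {O : P.Opens} {A B : P.Modules} (hA : IsLoc O A) (e : A ≅ B) : IsLoc O B := by
  obtain ⟨E', hE', ⟨i⟩⟩ := hA
  exact ⟨E', hE', ⟨e.symm ≪≫ i⟩⟩

theorem IsLoc.of_le {O O' : P.Opens} (h : O' ≤ O) [QuasiCompact O'.ι] {E : P.Modules}
    (hE : IsLoc O' E) : IsLoc O E := by
  obtain ⟨E', hE', ⟨e⟩⟩ := hE
  have h1 : P.homOfLE h ≫ O.ι = O'.ι := P.homOfLE_ι h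
  have h2 : QuasiCompact (P.homOfLE h ≫ O.ι) := by
    rw [h1]
    infer_instance
  have h3 : QuasiCompact (P.homOfLE h) := QuasiCompact.of_comp _ O.ι
  refine ⟨(Scheme.Modules.pushforward (P.homOfLE h)).obj E',
    Groth.Agent.Ega1.QcqsPush.isQCoh_pushforward _ _ hE', ⟨e ≪≫ ?_⟩⟩
  exact ((K355.pushIso (P.homOfLE h) O.ι O'.ι h1).app E').symm

theorem IsLoc.tensor {O : P.Opens} [IsAffineHom O.ι] {E : P.Modules} (hE : IsLoc O E)
    (M : P.Modules) (hM : Coh.IsQCoh M) : IsLoc O (M ⊗ E : P.Modules) := by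
  obtain ⟨E', hE', ⟨e⟩⟩ := hE
  have h1 := isIso_projL O.ι M E' hM hE'
  exact ⟨((Scheme.Modules.pullback O.ι).obj M ⊗ E' : O.toScheme.Modules),
    Groth.Agent.Ega1.TensorRestrict.isQCoh_tensorMod _ _ (K355.isQCoh_pull O.ι M hM) hE',
    ⟨whiskerLeftIso M e ≪≫ asIso (projL O.ι M E')⟩⟩

theorem IsLoc.supp {O : P.Opens} {E : P.Modules} (hE : IsLoc O E) (V : P.Opens) :
    Function.Bijective (res E (inf_le_left : V ⊓ O ≤ V)) := by
  obtain ⟨E', -, ⟨e⟩⟩ := hE
  have h1 : Function.Bijective (res ((Scheme.Modules.pushforward O.ι).obj E')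
      (inf_le_left : V ⊓ O ≤ V)) := by
    have h2 : O.ι ⁻¹ᵁ (V ⊓ O) = O.ι ⁻¹ᵁ V := by
      ext x
      exact ⟨fun h => h.1, fun h => ⟨h, x.2⟩⟩
    have h3 : IsIso (((Scheme.Modules.pushforward O.ι).obj E').presheaf.map
        (homOfLE (inf_le_left : V ⊓ O ≤ V)).op) := by
      have h4 : ∀ {A B : (O.toScheme.Opens)ᵒᵖ} (f : A ⟶ B), A = B → IsIso (E'.presheaf.map f) := by
        rintro A B f rfl
        have : f = 𝟙 A := Subsingleton.elim _ _
        rw [this]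
        infer_instance
      exact h4 ((TopologicalSpace.Opens.map O.ι.base).op.map (homOfLE (inf_le_left : V ⊓ O ≤ V)).op)
        (congrArg Opposite.op h2.symm)
    exact (ConcreteCategory.isIso_iff_bijective _).1 h3
  have h5 : ∀ W : P.Opens, Function.Bijective (e.hom.app W) := fun W =>
    (ConcreteCategory.isIso_iff_bijective _).1 inferInstance
  have h6 : (res ((Scheme.Modules.pushforward O.ι).obj E') (inf_le_left : V ⊓ O ≤ V)) ∘
      (e.hom.app V) = (e.hom.app (V ⊓ O)) ∘ (res E (inf_le_left : V ⊓ O ≤ V)) := by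
    funext x
    exact (app_res e.hom (inf_le_left : V ⊓ O ≤ V) x).symm
  have h7 : Function.Bijective ((e.hom.app (V ⊓ O)) ∘ (res E (inf_le_left : V ⊓ O ≤ V))) := by
    rw [← h6]
    exact h1.comp (h5 V)
  exact (Function.Bijective.of_comp_iff' (h5 _) _).1 h7

end Loc

section GlueHom

open GlueMod

variable (D : Datum P) (hcov : ∀ x : P, ∃ i, x ∈ D.W i) {G : P.Modules} (g : ∀ i, G ⟶ D.T i)
  (hg : ∀ ⦃i k : D.I⦄ (h : D.R i k), g i ≫ D.τ h = g k) (hb : ∀ i, IsoOn (D.W i) (g i))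

include hcov hg hb in
/-- Morphisms to a module which is locally `D.T i`. -/
theorem existsUnique_lift {A : P.Modules} (φ : ∀ i, A ⟶ D.T i)
    (hφ : ∀ ⦃i k : D.I⦄ (h : D.R i k), φ i ≫ D.τ h = φ k) : ∃! ψ : A ⟶ G, ∀ i, ψ ≫ g i = φ i := by
  obtain ⟨θ, hθ⟩ := exists_lift D g hg
  have h1 : IsIso θ := by
    refine isIso_of_isoOn D.W hcov θ fun i => ?_
    refine IsoOn.of_comp_right (isoOn_of_bij (lam D i) fun V hV => lam_bijective D i hV) ?_
    rw [hθ]
    exact hb i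
  obtain ⟨ψ, hψ⟩ := exists_lift D φ hφ
  refine ⟨ψ ≫ inv θ, fun i => ?_, fun ψ' hψ' => ?_⟩
  · rw [Category.assoc, ← hθ i, IsIso.inv_hom_id_assoc, hψ]
  · rw [← cancel_mono θ, Category.assoc, IsIso.inv_hom_id, Category.comp_id]
    refine GlueMod.hom_ext D fun i => ?_
    rw [Category.assoc, hθ, hψ', hψ]

include hcov hg hb in
/-- Morphisms to the direct image of a module which is locally `D.T i`. -/
theorem existsUnique_lift_push {Y : Scheme.{u}} (q : P ⟶ Y) {A : Y.Modules}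
    (φ : ∀ i, A ⟶ (Coh.push q).obj (D.T i))
    (hφ : ∀ ⦃i k : D.I⦄ (h : D.R i k), φ i ≫ (Coh.push q).map (D.τ h) = φ k) :
    ∃! ψ : A ⟶ (Coh.push q).obj G, ∀ i, ψ ≫ (Coh.push q).map (g i) = φ i := by
  let adj := Scheme.Modules.pullbackPushforwardAdjunction q
  obtain ⟨ψ, hψ, hu⟩ := existsUnique_lift D hcov g hg hb
    (fun i => (adj.homEquiv _ _).symm (φ i)) (fun i k h => by
      rw [← adj.homEquiv_naturality_right_symm]
      exact congrArg _ (hφ h))
  refine ⟨adj.homEquiv _ _ ψ, fun i => ?_, fun ψ' hψ' => ?_⟩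
  · exact (adj.homEquiv_naturality_right ψ (g i)).symm.trans
      ((congrArg _ (hψ i)).trans (Equiv.apply_symm_apply _ _))
  · rw [← Equiv.symm_apply_eq]
    refine hu _ fun i => ?_
    rw [← adj.homEquiv_naturality_right_symm]
    exact congrArg _ (hψ' i)

end GlueHom

end K350.Ker
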