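import Groth.Agent.FunMor.K350.KerBase

/-!
# The kernel theorem, affine case

* `exists_kernel_aff`: `X` affine; a linear right exact functor `F : QCoh X ⥤ QCoh Y` preserving direct sums is
  `FM p q T` with `T` quasi-coherent on `X ×_S Y`, and natural transformations `F ⟶ FM p q E` are morphisms `T ⟶ E`.
-/

set_option autoImplicit false
universe u
open CategoryTheory CategoryTheory.Limits AlgebraicGeometry MonoidalCategory

namespace K350.Ker

open Groth.Agent.FormalB.ModPow K350.WattsQ K350.Desc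
open scoped Groth.Agent.Dcoh.MonCat

variable {X Y P S : Scheme.{u}} (p : P ⟶ X) (q : P ⟶ Y) {a : X ⟶ S} {b : Y ⟶ S}

/-- A functor `QCoh X ⥤ QCoh Y` as a functor to `Y.Modules`. -/
noncomputable abbrev FQ (F : QCohCat.QCoh X ⥤ QCohCat.QCoh Y) : QCohCat.QCoh X ⥤ Y.Modules :=
  F ⋙ (QCohCat.isQCoh Y).ι

/-- `M ↦ q_* (p^* M ⊗ E)` on quasi-coherent modules. -/
noncomputable abbrev FMQ (E : P.Modules) : QCohCat.QCoh X ⥤ Y.Modules :=
  (QCohCat.isQCoh X).ι ⋙ K355.FM p q E

/-- Functoriality in `E`. -/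
noncomputable def FMQmap {E E' : P.Modules} (φ : E ⟶ E') : FMQ (X := X) p q E ⟶ FMQ p q E' :=
  Functor.whiskerLeft (QCohCat.isQCoh X).ι (FMmap p q φ)

theorem FMQmap_comp {E E' E'' : P.Modules} (φ : E ⟶ E') (ψ : E' ⟶ E'') :
    FMQmap p q (φ ≫ ψ) = FMQmap p q φ ≫ FMQmap p q ψ := by
  rw [FMQmap, FMmap_comp, Functor.whiskerLeft_comp]
  rfl

theorem FMQmap_id (E : P.Modules) : FMQmap p q (𝟙 E) = 𝟙 _ := by
  rw [FMQmap, FMmap_id]
  rfl

theorem FMQmap_app {E E' : P.Modules} (φ : E ⟶ E') (M : QCohCat.QCoh X) :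
    (FMQmap p q φ).app M = (Coh.push q).map ((Scheme.Modules.pullback p).obj M.obj ◁ φ) := rfl

/-- `FM p q E` at `O_X`. -/
noncomputable def unitQ (E : P.Modules) : (FMQ p q E).obj (OQ X) ≅ (Coh.push q).obj E :=
  unitE p q E

theorem unitQ_naturality {E E' : P.Modules} (φ : E ⟶ E') :
    (FMQmap p q φ).app (OQ X) ≫ (unitQ p q E').hom =
      (unitQ p q E).hom ≫ (Coh.push q).map φ := unitE_naturality p q φ

theorem unitQ_smul (E : P.Modules) (r : Γ(X, ⊤)) :
    (FMQ p q E).map (smQ (OQ X) r) ≫ (unitQ p q E).hom =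
      (unitQ p q E).hom ≫ (Coh.push q).map (Formal.smulModΓ E (p.appTop.hom r)) :=
  unitE_smul p q E r

theorem unitQ_inv_smul (E : P.Modules) (r : Γ(X, ⊤)) :
    (unitQ p q E).inv ≫ (FMQ p q E).map (smQ (OQ X) r) =
      (Coh.push q).map (Formal.smulModΓ E (p.appTop.hom r)) ≫ (unitQ p q E).inv := by
  rw [Iso.inv_comp_eq, ← Category.assoc, Iso.eq_comp_inv, unitQ_smul]

/-- Morphisms to `FMQ p q E` at `O_X`. -/
theorem lin_inv (F : QCohCat.QCoh X ⥤ QCohCat.QCoh Y) [F.Additive] {E : P.Modules}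
    (ψ : (FQ F).obj (OQ X) ⟶ (Coh.push q).obj E)
    (hψ : IsLin q p.appTop.hom (actF F (OQ X)) ψ) (c : OQ X ⟶ OQ X) :
    (FQ F).map c ≫ ψ ≫ (unitQ p q E).inv = (ψ ≫ (unitQ p q E).inv) ≫ (FMQ p q E).map c := by
  obtain ⟨r, rfl⟩ := exists_smQ c
  have h1 : (FQ F).map (smQ (OQ X) r) ≫ ψ =
    ψ ≫ (Coh.push q).map (Formal.smulModΓ E (p.appTop.hom r)) := hψ r
  rw [← Category.assoc, h1, Category.assoc, Category.assoc, unitQ_inv_smul]

theorem lin_of (F : QCohCat.QCoh X ⥤ QCohCat.QCoh Y) [F.Additive] {E : P.Modules}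
    (s : FQ F ⟶ FMQ p q E) :
    IsLin q p.appTop.hom (actF F (OQ X)) (s.app (OQ X) ≫ (unitQ p q E).hom) := by
  intro r
  have h1 := s.naturality (smQ (OQ X) r)
  change (FQ F).map (smQ (OQ X) r) ≫ s.app (OQ X) ≫ (unitQ p q E).hom =
    (s.app (OQ X) ≫ (unitQ p q E).hom) ≫ (Coh.push q).map (Formal.smulModΓ E (p.appTop.hom r))
  rw [← Category.assoc, h1, Category.assoc, Category.assoc, unitQ_smul]

instance additive_FMQ (E : P.Modules) : (FMQ (X := X) p q E).Additive := by
  have h1 : (Coh.push q).Additive := inferInstanceAs (Scheme.Modules.pushforward q).Additive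
  have h2 : (K355.FM p q E).Additive := inferInstance
  infer_instance

instance additive_FQ (F : QCohCat.QCoh X ⥤ QCohCat.QCoh Y) [F.Additive] : (FQ F).Additive :=
  inferInstance

theorem preservesFiniteColimits_FQ (F : QCohCat.QCoh X ⥤ QCohCat.QCoh Y)
    [PreservesFiniteColimits F] : PreservesFiniteColimits (FQ F) := by
  have := K355.preservesFiniteColimits_ιQ Y
  exact comp_preservesFiniteColimits _ _

theorem preservesCoproducts_FQ (F : QCohCat.QCoh X ⥤ QCohCat.QCoh Y)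
    (J : Type u) [PreservesColimitsOfShape (Discrete J) F] :
    PreservesColimitsOfShape (Discrete J) (FQ F) := by
  infer_instance

variable {p q}

/-- The kernel theorem, affine case. -/
theorem exists_kernel_aff [IsAffine X] [IsAffine S] (sq : IsPullback p q a b)
    (F : QCohCat.QCoh X ⥤ QCohCat.QCoh Y) [F.Additive] [PreservesFiniteColimits F]
    [∀ J : Type u, PreservesColimitsOfShape (Discrete J) F] (hF : RLin a b F) :
    ∃ (T : P.Modules) (_ : Coh.IsQCoh T) (t : FQ F ⟶ FMQ p q T), IsIso t ∧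
      ∀ (E : P.Modules) (s : FQ F ⟶ FMQ p q E), ∃! φ : T ⟶ E, t ≫ FMQmap p q φ = s := by
  have ha : IsAffineHom a := inferInstance
  have hq : IsAffineHom q := MorphismProperty.of_isPullback sq ha
  obtain ⟨T, hT, η, hη, hlin, huniv⟩ := exists_desc (isProd_of_isPullback sq)
    (F.obj (OQ X)).obj (F.obj (OQ X)).property (actF F (OQ X)) (fun r => hF r (OQ X))
  have hF1 := preservesFiniteColimits_FQ F
  have hF2 := fun J => preservesCoproducts_FQ F J
  obtain ⟨t, ht⟩ := exists_aff X (FQ F) (FMQ p q T)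
    ((show (FQ F).obj (OQ X) ⟶ (Coh.push q).obj T from η) ≫ (unitQ p q T).inv)
    (lin_inv p q F η hlin)
  have hη' : IsIso (show (FQ F).obj (OQ X) ⟶ (Coh.push q).obj T from η) := hη
  refine ⟨T, hT, t, ?_, fun E s => ?_⟩
  · have h1 : IsIso (t.app (OQ X)) := by
      rw [ht]
      infer_instance
    have h2 : PreservesFiniteColimits (FMQ (X := X) p q T) :=
      K355.preservesFiniteColimits_of_small.{u} _ fun J _ =>
        K355.preservesColimits_FM_affine _ _ T hT J
    have h3 : ∀ J : Type u, PreservesColimitsOfShape (Discrete J) (FMQ (X := X) p q T) :=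
      fun J => K355.preservesColimits_FM_affine _ _ T hT (Discrete J)
    exact isIso_aff X (FQ F) (FMQ p q T) t
  · obtain ⟨φ, hφ, hu⟩ := huniv E (s.app (OQ X) ≫ (unitQ p q E).hom) (lin_of p q F s)
    have key : ∀ φ : T ⟶ E, t ≫ FMQmap p q φ = s ↔
        η ≫ (Scheme.Modules.pushforward q).map φ = s.app (OQ X) ≫ (unitQ p q E).hom := by
      intro φ
      have h1 : t ≫ FMQmap p q φ = s ↔ (t ≫ FMQmap p q φ).app (OQ X) = s.app (OQ X) :=
        ⟨fun h => by rw [h], fun h => ext_aff X (FQ F) h⟩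
      rw [h1, NatTrans.comp_app, ht, Category.assoc, ← cancel_mono (unitQ p q E).hom,
        Category.assoc, Category.assoc, unitQ_naturality, Iso.inv_hom_id_assoc]
    exact ⟨φ, (key φ).2 hφ, fun φ' hφ' => hu φ' ((key φ').1 hφ')⟩

end K350.Ker
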