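import Groth.Agent.FunMor.K350.WattsQ
import Groth.Agent.FunMor.K350.Desc
import Groth.Agent.FunMor.K355.FMExactAff
import Groth.Agent.Ega3B.TensorAUnit
import Groth.Agent.PerfB.UnitEnd
import Mathlib.AlgebraicGeometry.Morphisms.Flat

/-!
# `M ↦ q_* (p^* M ⊗ E)` as a functor of `E`; the affine case of the kernel theorem

* `FMmap φ : FM p q E ⟶ FM p q E'` for `φ : E ⟶ E'`;
* `unitE`: `FM p q E` at `O_X` is `q_* E`;
* `exists_kernel_aff`: `X` affine; a linear right exact functor `F : QCoh X ⥤ QCoh Y` preserving direct sums is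
  `FM p q T` with `T` quasi-coherent on `X ×_S Y`, and natural transformations `F ⟶ FM p q E` are morphisms `T ⟶ E`.
-/

set_option autoImplicit false
universe u
open CategoryTheory CategoryTheory.Limits AlgebraicGeometry MonoidalCategory

namespace K350.Ker

open Groth.Agent.FormalB.ModPow K350.WattsQ K350.Desc
open scoped Groth.Agent.Dcoh.MonCat

section FM

variable {X Y P : Scheme.{u}} (p : P ⟶ X) (q : P ⟶ Y)

/-- Functoriality of `FM` in the kernel. -/
noncomputable def FMmap {E E' : P.Modules} (φ : E ⟶ E') : K355.FM p q E ⟶ K355.FM p q E' where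
  app M := (Coh.push q).map ((Scheme.Modules.pullback p).obj M ◁ φ)
  naturality M N f := by
    change (Coh.push q).map ((Scheme.Modules.pullback p).map f ▷ E) ≫ (Coh.push q).map _ =
      (Coh.push q).map _ ≫ (Coh.push q).map ((Scheme.Modules.pullback p).map f ▷ E')
    rw [← Functor.map_comp, ← Functor.map_comp]
    exact congrArg _ (whisker_exchange _ _).symm

theorem FMmap_app {E E' : P.Modules} (φ : E ⟶ E') (M : X.Modules) :
    (FMmap p q φ).app M = (Coh.push q).map ((Scheme.Modules.pullback p).obj M ◁ φ) := rfl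

theorem FMmap_id (E : P.Modules) : FMmap p q (𝟙 E) = 𝟙 _ := by
  ext M : 2
  rw [FMmap_app, MonoidalCategory.whiskerLeft_id]
  exact (Coh.push q).map_id _

theorem FMmap_comp {E E' E'' : P.Modules} (φ : E ⟶ E') (ψ : E' ⟶ E'') :
    FMmap p q (φ ≫ ψ) = FMmap p q φ ≫ FMmap p q ψ := by
  ext M : 2
  rw [FMmap_app, MonoidalCategory.whiskerLeft_comp, Functor.map_comp]
  rfl

theorem FMmap_comp_app {E E' E'' : P.Modules} (φ : E ⟶ E') (ψ : E' ⟶ E'') (M : X.Modules) :
    (FMmap p q (φ ≫ ψ)).app M = (FMmap p q φ).app M ≫ (FMmap p q ψ).app M := by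
  rw [FMmap_comp]
  rfl

/-- `p^* O_X ≅ O_P`. -/
noncomputable def unitPull :
    (Scheme.Modules.pullback p).obj (Coh.structureModule X) ≅ 𝟙_ P.Modules :=
  letI := Groth.Agent.Dcoh.MonPull.monPull p
  (Functor.Monoidal.εIso (Scheme.Modules.pullback p)).symm

/-- `p^* O_X ⊗ E ≅ E`. -/
noncomputable def vIso (E : P.Modules) :
    ((Scheme.Modules.pullback p).obj (Coh.structureModule X) ⊗ E : P.Modules) ≅ E :=
  whiskerRightIso (unitPull p) E ≪≫ λ_ E

theorem vIso_naturality {E E' : P.Modules} (φ : E ⟶ E') :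
    (Scheme.Modules.pullback p).obj (Coh.structureModule X) ◁ φ ≫ (vIso p E').hom =
      (vIso p E).hom ≫ φ := by
  simp only [vIso, Iso.trans_hom, whiskerRightIso_hom, Category.assoc]
  rw [← leftUnitor_naturality, whisker_exchange_assoc]

/-- `FM p q E` at `O_X`. -/
noncomputable def unitE (E : P.Modules) :
    (K355.FM p q E).obj (Coh.structureModule X) ≅ (Coh.push q).obj E :=
  (Coh.push q).mapIso (vIso p E)

theorem unitE_naturality {E E' : P.Modules} (φ : E ⟶ E') :
    (FMmap p q φ).app (Coh.structureModule X) ≫ (unitE p q E').hom =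
      (unitE p q E).hom ≫ (Coh.push q).map φ := by
  rw [FMmap_app]
  change (Coh.push q).map _ ≫ (Coh.push q).map (vIso p E').hom =
    (Coh.push q).map (vIso p E).hom ≫ _
  rw [← Functor.map_comp, ← Functor.map_comp, vIso_naturality]

theorem smulModΓ_whiskerRight (F G : P.Modules) (r : Coh.Γtop P) :
    Formal.smulModΓ G r ▷ F = Formal.smulModΓ (G ⊗ F) r := by
  refine Groth.Agent.Ega2.Tens.hom_ext (M := G) (N := F) _ _ fun U m n => ?_
  refine (Groth.Agent.Ega3B.TensorAUnit.tensorRightMod_map_tmul F (Formal.smulModΓ G r) m n).trans ?_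
  rw [KLin.smulModΓ_app_apply, Groth.Agent.Ega2.Tens.smul_tmul]
  exact (KLin.smulModΓ_app_apply _ _ _ _).symm

theorem FM_map_smulModΓ (E : P.Modules) (M : X.Modules) (r : Coh.Γtop X) :
    (K355.FM p q E).map (Formal.smulModΓ M r) =
      (Coh.push q).map (Formal.smulModΓ ((Scheme.Modules.pullback p).obj M ⊗ E) (p.appTop.hom r)) := by
  change (Coh.push q).map ((Scheme.Modules.pullback p).map (Formal.smulModΓ M r) ▷ E) = _
  rw [Groth.Agent.Ega1.PullFormal.pullback_smulModΓ, smulModΓ_whiskerRight]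

theorem unitE_smul (E : P.Modules) (r : Coh.Γtop X) :
    (K355.FM p q E).map (Formal.smulModΓ (Coh.structureModule X) r) ≫ (unitE p q E).hom =
      (unitE p q E).hom ≫ (Coh.push q).map (Formal.smulModΓ E (p.appTop.hom r)) := by
  rw [FM_map_smulModΓ]
  change (Coh.push q).map _ ≫ (Coh.push q).map (vIso p E).hom =
    (Coh.push q).map (vIso p E).hom ≫ _
  rw [← Functor.map_comp, ← Functor.map_comp, KLin.comp_smulModΓ]

end FM

section Lin

variable {X Y S : Scheme.{u}}

/-- Multiplication by a global function. -/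
noncomputable def smQ (M : QCohCat.QCoh X) (r : Γ(X, ⊤)) : M ⟶ M :=
  ObjectProperty.homMk (Formal.smulModΓ M.obj r)

theorem smQ_hom (M : QCohCat.QCoh X) (r : Γ(X, ⊤)) : (smQ M r).hom = Formal.smulModΓ M.obj r := rfl

theorem exists_smQ (a : OQ X ⟶ OQ X) : ∃ r, a = smQ (OQ X) r := by
  refine ⟨Groth.Agent.PerfB.UnitEnd.sec a.hom, ObjectProperty.hom_ext _ ?_⟩
  apply Scheme.Modules.hom_ext
  intro U
  ext t
  refine (Groth.Agent.PerfB.UnitEnd.fn_eq a.hom U t).trans ?_
  exact mul_comm _ _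

/-- Linearity of a functor over the global functions of the base. -/
def RLin (a : X ⟶ S) (b : Y ⟶ S) (F : QCohCat.QCoh X ⥤ QCohCat.QCoh Y) : Prop :=
  ∀ (r : Γ(S, ⊤)) (M : QCohCat.QCoh X), (F.map (smQ M (a.appTop.hom r))).hom =
    Formal.smulModΓ (F.obj M).obj (b.appTop.hom r)

/-- The action of the global functions on the value of a functor. -/
noncomputable def actF (F : QCohCat.QCoh X ⥤ QCohCat.QCoh Y) [F.Additive] (M : QCohCat.QCoh X) :
    Act Γ(X, ⊤) (F.obj M).obj where
  ρ r := (F.map (smQ M r)).hom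
  one := by
    have h : smQ M 1 = 𝟙 M := ObjectProperty.hom_ext _ (smulModΓ_one M.obj)
    rw [h, F.map_id]
    rfl
  mul a b := by
    have h : smQ M (a * b) = smQ M a ≫ smQ M b :=
      ObjectProperty.hom_ext _ (KLin.smulModΓ_mul M.obj a b)
    rw [h, F.map_comp]
    rfl
  add a b := by
    have h : smQ M (a + b) = smQ M a + smQ M b :=
      ObjectProperty.hom_ext _ (smulModΓ_add M.obj a b)
    rw [h, F.map_add]
    rfl

end Lin

section Aff

variable {X Y P S : Scheme.{u}} {p : P ⟶ X} {q : P ⟶ Y} {a : X ⟶ S} {b : Y ⟶ S}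

theorem isProd_of_isPullback [IsAffine X] [IsAffine S] (sq : IsPullback p q a b) :
    IsProd q a.appTop.hom b.appTop.hom p.appTop.hom := by
  intro V hV
  have h := (isIso_pushoutSection_iff sq (US := ⊤) (UT := V) (UX := ⊤) (UY := q ⁻¹ᵁ V) le_top le_top
    (by simp)).1 (isIso_pushoutSection_of_isAffineOpen sq le_top le_top (by simp)
      (isAffineOpen_top S) hV (isAffineOpen_top X))
  have e1 : a.appLE ⊤ ⊤ le_top = CommRingCat.ofHom a.appTop.hom := by
    exact (congrArg (a.app ⊤ ≫ ·) (X.presheaf.map_id _)).trans (Category.comp_id _)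
  have e4 : q.appLE V (q ⁻¹ᵁ V) (by simp) = CommRingCat.ofHom (q.app V).hom := by
    rw [Scheme.Hom.appLE_eq_app]
    rfl
  have e2 : b.appLE ⊤ V le_top = CommRingCat.ofHom ((resΓ Y V).comp b.appTop.hom) := rfl
  have e3 : p.appLE ⊤ (q ⁻¹ᵁ V) (by simp) =
    CommRingCat.ofHom ((resΓ P (q ⁻¹ᵁ V)).comp p.appTop.hom) := rfl
  rw [e1, e2, e3, e4] at h
  exact h

end Aff

end K350.Ker
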