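import Groth.Agent.FunMor.K350.KerFlat
import Groth.Agent.FunMor.K350.Embed
import Groth.Agent.Models2.FMExact
import Groth.Agent.Ega3B.RpushAff
import Groth.Agent.S0012
import Groth.Agent.Dcoh.PushRestrict
import Groth.Agent.CohqA.UnifVan
import Groth.Prelude.Def_RDerDelta

/-!
# Exact functors on quasi-coherent modules are given by a flat kernel
-/

set_option autoImplicit false
universe u
open CategoryTheory CategoryTheory.Limits AlgebraicGeometry MonoidalCategory

namespace K350.Ker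

open Groth.Agent.FormalB.ModPow K350.WattsQ K350.Desc
open Groth.Agent.Models2.QCohPush Groth.Agent.EGA2.K32 Groth.Agent.Fdesc.LocGen
open scoped Groth.Agent.Dcoh.MonCat

attribute [local instance] K355.abelianQCoh Abelian.hasFiniteBiproducts

section Embedding

variable {X : Scheme.{u}}

theorem eq_zero_of_isoOn {ι : Type*} (U : ι → X.Opens) (hU : ∀ x : X, ∃ i, x ∈ U i)
    {A M : X.Modules} (g : A ⟶ M) (N : ι → X.Modules) (φ : ∀ i, M ⟶ N i)
    (hφ : ∀ i, IsoOn (U i) (φ i)) (h : ∀ i, g ≫ φ i = 0) : g = 0 := by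
  apply Scheme.Modules.hom_ext
  intro V
  ext m
  refine res_ext M (fun i => V ⊓ U i) (fun i => inf_le_left) ?_ fun i => ?_
  · intro x hx
    obtain ⟨i, hi⟩ := hU x
    exact TopologicalSpace.Opens.mem_iSup.2 ⟨i, hx, hi⟩
  · refine (hφ i).bij inf_le_right |>.1 ?_
    rw [← app_res, ← app_res]
    have h1 := congr(($(h i)).app (V ⊓ U i) (res A inf_le_left m))
    exact h1.trans (map_zero ((φ i).app (V ⊓ U i)).hom).symm

/-- The unit of restriction to an open. -/
noncomputable def etaQ (U : X.Opens) [QuasiCompact U.ι] (M : QCohCat.QCoh X) :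
    M ⟶ (pushQ U.ι).obj ((restrictQ U.ι).obj M) := ObjectProperty.homMk (nu U M.obj)

theorem exists_finite_cover (X : Scheme.{u}) [CompactSpace X] :
    ∃ (n : ℕ) (U : Fin n → X.affineOpens), ∀ x : X, ∃ i, x ∈ (U i).1 := by
  obtain ⟨I, hI, he⟩ := (isCompact_iff_finite_and_eq_biUnion_affineOpens (U := (⊤ : X.Opens))).mp
    isCompact_univ
  have := hI.to_subtype
  obtain ⟨n, ⟨e⟩⟩ := Finite.exists_equiv_fin I
  refine ⟨n, fun i => (e.symm i).1, fun x => ?_⟩
  have h1 : x ∈ (⊤ : X.Opens) := trivial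
  rw [he, ← iSup_subtype''] at h1
  obtain ⟨i, hi⟩ := TopologicalSpace.Opens.mem_iSup.1 h1
  exact ⟨e i, by simpa using hi⟩

variable [∀ U : X.affineOpens, IsAffineHom U.1.ι] {n : ℕ} (U : Fin n → X.affineOpens)

/-- The embedding of a quasi-coherent module in a sum of direct images from affine opens. -/
noncomputable def embQ (M : QCohCat.QCoh X) :
    M ⟶ ⨁ fun k : Fin n => (pushQ (U k).1.ι).obj ((restrictQ (U k).1.ι).obj M) :=
  biproduct.lift fun k => etaQ (U k).1 M

theorem mono_embQ (hU : ∀ x : X, ∃ i, x ∈ (U i).1) (M : QCohCat.QCoh X) : Mono (embQ U M) := by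
  refine Preadditive.mono_of_cancel_zero _ fun {A} g hg => ?_
  refine ObjectProperty.hom_ext _ ?_
  refine eq_zero_of_isoOn (fun k => (U k).1) hU g.hom _ (fun k => nu (U k).1 M.obj)
    (fun k => isoOn_nu _ _) fun k => ?_
  have h1 : g ≫ etaQ (U k).1 M = 0 := by
    have h2 := congrArg (· ≫ biproduct.π _ k) hg
    simpa [embQ] using h2
  exact congrArg (fun f => f.hom) h1

end Embedding

variable {X Y P S : Scheme.{u}} {p : P ⟶ X} {q : P ⟶ Y} {a : X ⟶ S} {b : Y ⟶ S}

theorem preservesFiniteLimits_FMQ {K : P.Modules} (hK : FlatMod.IsFlatOver p K) :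
    PreservesFiniteLimits (FMQ p q K) := by
  have h1 := Groth.Agent.Models2.FMExact.preservesFiniteLimits_G p K hK
  have h2 := K355.preservesFiniteLimits_ιQ X
  have h3 : PreservesFiniteLimits (Coh.push q) :=
    inferInstanceAs (PreservesFiniteLimits (Scheme.Modules.pushforward q))
  have h4 : PreservesFiniteLimits (Groth.Agent.Models2.FMExact.G p K ⋙ Coh.push q) :=
    comp_preservesFiniteLimits _ _
  exact comp_preservesFiniteLimits (QCohCat.isQCoh X).ι (Groth.Agent.Models2.FMExact.G p K ⋙ Coh.push q)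

/-- The comparison map of an exact functor with the functor of its kernel is an isomorphism. -/
theorem isIso_kernel [CompactSpace X] [∀ U : X.affineOpens, IsAffineHom U.1.ι]
    (F : QCohCat.QCoh X ⥤ QCohCat.QCoh Y) [F.Additive] [PreservesFiniteLimits F] {K : P.Modules}
    (hK : FlatMod.IsFlatOver p K) (s : FQ F ⟶ FMQ p q K)
    (hs : ∀ (U : X.affineOpens) (L : QCohCat.QCoh U.1.toScheme),
      IsIso (s.app ((pushQ U.1.ι).obj L))) : IsIso s := by
  obtain ⟨n, U, hU⟩ := exists_finite_cover X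
  have h1 := preservesFiniteLimits_FMQ (q := q) hK
  have h2 : PreservesFiniteLimits (FQ F) := by
    have := K355.preservesFiniteLimits_ιQ Y
    exact comp_preservesFiniteLimits _ _
  have h3 : ∀ M, IsIso (s.app M) := Embed.isIso_of_embedding s fun M =>
    ⟨_, embQ U M, mono_embQ U hU M, Embed.isIso_biproduct s _ fun k => hs (U k) _⟩
  exact NatIso.isIso_of_isIso_app s

section Vanish

theorem isAffineHom_restrict {E : Scheme.{u}} (i : E ⟶ X) [IsAffineHom i] (V : X.Opens) :
    IsAffineHom (i ∣_ V) :=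
  MorphismProperty.of_isPullback (P := @IsAffineHom) (isPullback_morphismRestrict i V).flip
    inferInstance

theorem HHon_push {E : Scheme.{u}} (i : E ⟶ X) [IsAffineHom i] {G : E.Modules} (hG : Coh.IsQCoh G)
    (V : X.Opens) (q : ℕ) :
    Subsingleton (Coh.HHon X ((Coh.push i).obj G) V q) ↔
      Subsingleton (Coh.HHon E G (i ⁻¹ᵁ V) q) := by
  have h1 : Coh.IsQCoh (G.restrict (i ⁻¹ᵁ V).ι) :=
    Groth.Agent.PerfA.QCohSerre.isQCoh_restrict _ hG
  have h2 := isAffineHom_restrict i V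
  obtain ⟨e⟩ := Groth.Agent.S0012.result (i ∣_ V) (G.restrict (i ⁻¹ᵁ V).ι) q
  refine Iff.trans ?_ e.symm.toEquiv.subsingleton_congr
  let e₁ := (Groth.Agent.Dcoh.PushRestrict.pushMorphismRestrictIso i V).app G
  exact ⟨fun h => Groth.Agent.CohqA.UnifVan.subsingleton_of_iso e₁ q h,
    fun h => Groth.Agent.CohqA.UnifVan.subsingleton_of_iso e₁.symm q h⟩

/-- `R^n q_* (j_* E) = 0` for `j` and `j ≫ q` affine. -/
theorem isZero_Rpush_push {O : Scheme.{u}} (j : O ⟶ P) (q : P ⟶ Y) [IsAffineHom j]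
    [IsAffineHom (j ≫ q)] [QuasiCompact q] [QuasiSeparated q] [HasInjectiveResolutions P.Modules]
    {E : O.Modules} (hE : Coh.IsQCoh E) (n : ℕ) (hn : 0 < n) :
    IsZero ((Coh.Rpush q n).obj ((Scheme.Modules.pushforward j).obj E)) := by
  rw [Groth.Agent.Ega3B.RpushAff.isZero_iff q _
    (Groth.Agent.Ega1.QcqsPush.isQCoh_pushforward j _ hE)]
  intro V hV
  refine (HHon_push j hE (q ⁻¹ᵁ V) n).2 ?_
  exact Groth.Agent.Ega3B.RpushAff.subsingleton_HHon E hE (V := (j ≫ q) ⁻¹ᵁ V)
    (hV.preimage (j ≫ q)) n hn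

theorem isZero_Rpush_open [IsAffine S] (sq : IsPullback p q a b)
    [QuasiCompact q] [QuasiSeparated q] [HasInjectiveResolutions P.Modules] {K : P.Modules}
    (hK : Coh.IsQCoh K) (U : X.affineOpens) [IsAffineHom U.1.ι] (L : QCohCat.QCoh U.1.toScheme)
    (n : ℕ) (hn : 0 < n) :
    IsZero ((Coh.Rpush q n).obj ((DCoh.tensorRightMod K).obj
      ((Scheme.Modules.pullback p).obj ((pushQ U.1.ι).obj L).obj))) := by
  have hU : IsAffine U.1.toScheme := U.2
  have h2 : IsPullback (p ∣_ U.1) (p ⁻¹ᵁ U.1).ι U.1.ι p := isPullback_morphismRestrict p U.1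
  have sq2 : IsPullback (p ∣_ U.1) ((p ⁻¹ᵁ U.1).ι ≫ q) (U.1.ι ≫ a) b := h2.paste_vert sq
  have hq2 : IsAffineHom ((p ⁻¹ᵁ U.1).ι ≫ q) := MorphismProperty.of_isPullback sq2
    (inferInstance : IsAffineHom (U.1.ι ≫ a))
  have hj : IsAffineHom (p ⁻¹ᵁ U.1).ι := MorphismProperty.of_isPullback h2 ‹_›
  have h3 := K355.isIso_bcMap_affine U.1.ι p (p ∣_ U.1) (p ⁻¹ᵁ U.1).ι h2 L.obj L.property
  have h4 := K355.isIso_proj_affine (p ⁻¹ᵁ U.1).ι ((Scheme.Modules.pullback (p ∣_ U.1)).obj L.obj) K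
    (K355.isQCoh_pull _ _ L.property) hK
  have e1 := (DCoh.tensorRightMod K).mapIso (@asIso _ _ _ _ _ h3)
  have e2 := @asIso _ _ _ _ _ h4
  have h5 : Coh.IsQCoh (((Scheme.Modules.pullback (p ∣_ U.1)).obj L.obj ⊗
      (Scheme.Modules.pullback (p ⁻¹ᵁ U.1).ι).obj K : (p ⁻¹ᵁ U.1).toScheme.Modules)) :=
    Groth.Agent.Ega1.TensorRestrict.isQCoh_tensorMod _ _ (K355.isQCoh_pull _ _ L.property)
      (K355.isQCoh_pull _ _ hK)
  exact (isZero_Rpush_push (p ⁻¹ᵁ U.1).ι q h5 n hn).of_iso ((Coh.Rpush q n).mapIso (e1 ≪≫ e2))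

/-- The higher direct images vanish. -/
theorem isZero_Rpush_FM [IsAffine S] (sq : IsPullback p q a b) [CompactSpace X]
    [∀ U : X.affineOpens, IsAffineHom U.1.ι] [QuasiCompact q] [QuasiSeparated q]
    [HasInjectiveResolutions P.Modules]
    (F : QCohCat.QCoh X ⥤ QCohCat.QCoh Y) [F.Additive] [PreservesFiniteColimits F] {K : P.Modules}
    (hKq : Coh.IsQCoh K) (hK : FlatMod.IsFlatOver p K) (s : FQ F ⟶ FMQ p q K) [IsIso s] (n : ℕ) :
    ∀ M : QCohCat.QCoh X, IsZero ((Coh.Rpush q (n + 1)).obj ((DCoh.tensorRightMod K).obj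
      ((Scheme.Modules.pullback p).obj M.obj))) := by
  obtain ⟨m, U, hU⟩ := exists_finite_cover X
  have h1 := Groth.Agent.Models2.FMExact.preservesFiniteLimits_G p K hK
  have h2 := K355.preservesFiniteLimits_ιQ X
  have h3 := K355.preservesFiniteColimits_ιQ X
  have h4 := K355.preservesFiniteColimits_ιQ Y
  have h5 : PreservesFiniteLimits (Coh.push q) :=
    inferInstanceAs (PreservesFiniteLimits (Scheme.Modules.pushforward q))
  have h6 : (Groth.Agent.Models2.FMExact.G p K).Additive :=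
    Groth.Agent.Models2.FMExact.additive_G p K
  let T : QCohCat.QCoh X ⥤ P.Modules :=
    (QCohCat.isQCoh X).ι ⋙ Groth.Agent.Models2.FMExact.G p K
  have h7 : PreservesFiniteLimits T := comp_preservesFiniteLimits _ _
  have h8 : PreservesFiniteColimits T := comp_preservesFiniteColimits _ _
  have h9 : T.Additive := inferInstance
  have hE : ∀ (k : ℕ) (M : QCohCat.QCoh X), IsZero ((Coh.Rpush q (k + 1)).obj (T.obj
      (⨁ fun i : Fin m => (pushQ (U i).1.ι).obj ((restrictQ (U i).1.ι).obj M)))) := by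
    intro k M
    have h100 : (Coh.Rpush q (k + 1)).Additive := RDer.rightDerived_additive _ _
    have h10 : (T ⋙ Coh.Rpush q (k + 1)).Additive := inferInstance
    exact Embed.isZero_biproduct (F := T ⋙ Coh.Rpush q (k + 1)) _ fun i =>
      isZero_Rpush_open sq hKq (U i) _ (k + 1) (Nat.succ_pos k)
  have hS : ∀ M : QCohCat.QCoh X, (ShortComplex.mk (embQ U M) (cokernel.π (embQ U M))
      (cokernel.condition _)).ShortExact := fun M =>
    have := mono_embQ U hU M
    { exact := ShortComplex.exact_cokernel _ }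
  induction n with
  | zero =>
    intro M
    have h11 := (hS M).map_of_exact T
    refine Embed.isZero_one_X₁ (Coh.push q) h11 ?_ (hE 0 M)
    have h12 : Epi ((FQ F).map (cokernel.π (embQ U M))) := inferInstance
    have h13 := s.naturality (cokernel.π (embQ U M))
    have h14 : Epi (s.app _ ≫ (FMQ p q K).map (cokernel.π (embQ U M))) := by
      rw [← h13]
      infer_instance
    exact epi_of_epi (s.app _) ((FMQ p q K).map (cokernel.π (embQ U M)))
  | succ n ih =>
    intro M
    exact Groth.Agent.Cohder.RDAcyc.isZero_X₁ (Coh.push q) ((hS M).map_of_exact T) (n + 1)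
      (ih _) (hE (n + 1) M)

end Vanish

end K350.Ker
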