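import Groth.Agent.FunMor.K350.KerMain
import Groth.Agent.FunMor.K350.FlatEx
import Groth.Agent.FunMor.K355.QCohGen
import Groth.Agent.Ega3B.FlatSec
import Groth.Agent.Ega3B.FlatRestrict
import Groth.Agent.PerfC.RelFlat

/-!
# The kernel of an exact functor is flat
-/

set_option autoImplicit false
universe u
open CategoryTheory CategoryTheory.Limits AlgebraicGeometry MonoidalCategory

namespace K350.Ker

open Groth.Agent.FormalB.ModPow K350.WattsQ K350.Desc
open Groth.Agent.Models2.QCohPush Groth.Agent.EGA2.K32 Groth.Agent.Fdesc.LocGen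

theorem smQ_mul {X : Scheme.{u}} (M : QCohCat.QCoh X) (r r' : Γ(X, ⊤)) :
    smQ M r ≫ smQ M r' = smQ M (r * r') :=
  ObjectProperty.hom_ext _ (KLin.smulModΓ_mul M.obj r r').symm

theorem smQ_add {X : Scheme.{u}} (M : QCohCat.QCoh X) (r r' : Γ(X, ⊤)) :
    smQ M (r + r') = smQ M r + smQ M r' :=
  ObjectProperty.hom_ext _ (smulModΓ_add M.obj r r')

theorem smQ_zero {X : Scheme.{u}} (M : QCohCat.QCoh X) : smQ M (0 : Γ(X, ⊤)) = 0 := by
  have h := smQ_add M 0 0
  rw [add_zero] at h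
  exact left_eq_add.1 h

theorem smQ_injective {X : Scheme.{u}} {r : Γ(X, ⊤)} (h : smQ (OQ X) r = 0) : r = 0 := by
  have h1 : Formal.smulModΓ (OQ X).obj r = 0 := congrArg (fun f => f.hom) h
  have h2 := KLin.smulModΓ_app_apply (Coh.structureModule X) r ⊤ (1 : Γ(X, ⊤))
  have h3 : (Formal.smulModΓ (Coh.structureModule X) r).app ⊤ (1 : Γ(X, ⊤)) = 0 := by
    have h4 : Formal.smulModΓ (Coh.structureModule X) r = 0 := h1
    rw [h4]
    rfl
  rw [h3] at h2
  have h5 : X.presheaf.map (homOfLE (le_top : (⊤ : X.Opens) ≤ ⊤)).op = 𝟙 _ := X.presheaf.map_id _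
  rw [h5] at h2
  exact (h2.trans (mul_one r)).symm

theorem preservesFiniteLimits_pushQ {X U : Scheme.{u}} (f : U ⟶ X) [IsOpenImmersion f]
    [QuasiCompact f] : PreservesFiniteLimits (pushQ f) :=
  have : PreservesLimitsOfSize.{0, 0} (pushQ f) := (adjQ f).rightAdjoint_preservesLimits
  PreservesLimitsOfSize.preservesFiniteLimits _

theorem preservesFiniteLimits_secQ {X : Scheme.{u}} (V : X.Opens) :
    PreservesFiniteLimits (K355.secQ V) := by
  have h1 := K355.preservesFiniteLimits_ιQ X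
  have h2 : PreservesFiniteLimits (Scheme.Modules.toPresheaf X) := inferInstance
  have h3 : PreservesFiniteLimits
    ((evaluation (X.Opens)ᵒᵖ AddCommGrpCat.{u}).obj (Opposite.op V)) := inferInstance
  have h4 : PreservesFiniteLimits (K355.secM V) := comp_preservesFiniteLimits _ _
  exact comp_preservesFiniteLimits _ _

theorem additive_secQ {X : Scheme.{u}} (V : X.Opens) : (K355.secQ V).Additive := by
  have h4 : (K355.secM V).Additive := inferInstance
  infer_instance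

variable {X Y P S : Scheme.{u}} {p : P ⟶ X} {q : P ⟶ Y} {a : X ⟶ S} {b : Y ⟶ S}

/-- The kernel of an exact functor on an affine scheme is flat. -/
theorem isFlatOver_aff [IsAffine X] [IsAffineHom q] (F : QCohCat.QCoh X ⥤ QCohCat.QCoh Y)
    [F.Additive] [PreservesFiniteLimits F] [PreservesFiniteColimits F]
    [∀ J : Type u, PreservesColimitsOfShape (Discrete J) F] {K : P.Modules} (hK : Coh.IsQCoh K)
    (s : FQ F ⟶ FMQ p q K) [IsIso s] : FlatMod.IsFlatOver p K := by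
  intro x
  obtain ⟨_, ⟨V, hV, rfl⟩, hxV, -⟩ := Y.isBasis_affineOpens.exists_subset_of_mem_open
    (Set.mem_univ (q x)) isOpen_univ
  have hW : IsAffineOpen (q ⁻¹ᵁ V) := hV.preimage q
  refine Groth.Agent.Ega3B.FlatSec.isFlatOverAt_of_flat_sections p K hK (isAffineOpen_top X) hW
    le_top ?_ x hxV
  let := Module.compHom Γ(K, q ⁻¹ᵁ V) (p.appLE ⊤ (q ⁻¹ᵁ V) le_top).hom
  let Φ : QCohCat.QCoh X ⥤ Ab.{u} := F ⋙ K355.secQ V
  have i1 := preservesFiniteLimits_secQ V
  have i2 := additive_secQ V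
  have i3 : PreservesFiniteLimits Φ := comp_preservesFiniteLimits _ _
  have i4 : ∀ J : Type u, ∀ [SmallCategory J], PreservesColimitsOfShape J (K355.secQ V) :=
    fun J _ => K355.preservesColimits_secQ hV J
  have i5 : PreservesFiniteColimits (K355.secQ V) := K355.preservesFiniteColimits_of_small.{u} _
    fun J _ => K355.preservesColimits_secQ hV J
  have i6 : PreservesFiniteColimits Φ := comp_preservesFiniteColimits _ _
  have i7 : ∀ J : Type u, PreservesColimitsOfShape (Discrete J) Φ := fun J => inferInstance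
  have i8 : Φ.Additive := inferInstance
  let := K355.abelianQCoh X
  let θ : (FQ F).obj (OQ X) ≅ (Coh.push q).obj K := asIso (s.app (OQ X)) ≪≫ unitQ p q K
  have hθ : IsLin q p.appTop.hom (actF F (OQ X)) θ.hom := lin_of p q F s
  let e : Φ.obj (OQ X) ≅ AddCommGrpCat.of Γ(K, q ⁻¹ᵁ V) := (K355.secM V).mapIso θ
  have he : ∀ (r : Γ(X, ⊤)) (y : Φ.obj (OQ X)), e.hom (Φ.map (smQ (OQ X) r) y) =
      (r • (e.hom y : Γ(K, q ⁻¹ᵁ V)) : Γ(K, q ⁻¹ᵁ V)) := by
    intro r y
    have h1 := congr(($(hθ r)).app V y)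
    refine h1.trans ?_
    change (Formal.smulModΓ K (p.appTop.hom r)).app (q ⁻¹ᵁ V) (θ.hom.app V y) = _
    rw [KLin.smulModΓ_app_apply]
    rfl
  have hinj : Function.Injective e.hom := (ConcreteCategory.isIso_iff_bijective e.hom).1 inferInstance |>.1
  rw [Module.Flat.iff_forall_isTrivialRelation]
  intro l f x hx
  have h1 : ∑ i, Φ.map (smQ (OQ X) (f i)) (e.inv (x i)) = 0 := by
    apply hinj
    rw [map_sum, map_zero, ← hx]
    refine Finset.sum_congr rfl fun i _ => ?_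
    rw [he]
    congr 1
    exact congr($(e.inv_hom_id) (x i))
  obtain ⟨k, c, w, hw, hc⟩ := FlatEx.exists_trivial_relation Φ
    (fun M {Z} f f' h => FlatEx.hom_ext_gen (affQ X) (affQIso X) Φ M h)
    (fun i => smQ (OQ X) (f i)) (fun i => e.inv (x i)) h1
  choose r hr using fun i j => exists_smQ (c i j)
  refine ⟨k, r, fun j => e.hom (w j), fun i => ?_, fun j => ?_⟩
  · have h2 : x i = e.hom (e.inv (x i)) := (congr($(e.inv_hom_id) (x i))).symm
    rw [h2, hw i, map_sum]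
    refine Finset.sum_congr rfl fun j _ => ?_
    rw [hr i j, he]
  · apply smQ_injective
    have h3 := hc j
    have h4 : ∀ (t : Finset (Fin l)) (g : Fin l → Γ(X, ⊤)), smQ (OQ X) (∑ i ∈ t, g i) =
        ∑ i ∈ t, smQ (OQ X) (g i) := by
      intro t g
      classical
      induction t using Finset.induction_on with
      | empty => simp [smQ_zero]
      | insert a t ha ih => rw [Finset.sum_insert ha, Finset.sum_insert ha, smQ_add, ih]
    rw [h4, ← h3]
    refine Finset.sum_congr rfl fun i _ => ?_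
    rw [hr i j, smQ_mul, mul_comm]

/-- The kernel of an exact functor is flat. -/
theorem isFlatOver_kernel [IsAffine S] (sq : IsPullback p q a b)
    (F : QCohCat.QCoh X ⥤ QCohCat.QCoh Y) [F.Additive] [PreservesFiniteLimits F]
    [PreservesFiniteColimits F] [∀ J : Type u, PreservesColimitsOfShape (Discrete J) F]
    [∀ U : X.affineOpens, IsAffineHom U.1.ι] {K : P.Modules} (hK : Coh.IsQCoh K)
    (s : FQ F ⟶ FMQ p q K)
    (hs : ∀ (U : X.affineOpens) (L : QCohCat.QCoh U.1.toScheme),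
      IsIso (s.app ((pushQ U.1.ι).obj L))) : FlatMod.IsFlatOver p K := by
  intro x
  obtain ⟨U, hxU⟩ := cover_dat p x
  have hU : IsAffine U.1.toScheme := U.2
  have h2 : IsPullback (p ∣_ U.1) (p ⁻¹ᵁ U.1).ι U.1.ι p := isPullback_morphismRestrict p U.1
  have sq2 : IsPullback (p ∣_ U.1) ((p ⁻¹ᵁ U.1).ι ≫ q) (U.1.ι ≫ a) b := h2.paste_vert sq
  have hq2 : IsAffineHom ((p ⁻¹ᵁ U.1).ι ≫ q) := MorphismProperty.of_isPullback sq2
    (inferInstance : IsAffineHom (U.1.ι ≫ a))
  have hfc := preservesFiniteColimits_pushQ_comp U.1.ι F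
  have hcp := fun J => preservesCoproducts_pushQ_comp U.1.ι F J
  have hfl0 := preservesFiniteLimits_pushQ U.1.ι
  have hfl : PreservesFiniteLimits (pushQ U.1.ι ⋙ F) := comp_preservesFiniteLimits _ _
  have i1 : IsIso (Functor.whiskerLeft (pushQ U.1.ι) s) := by
    have : ∀ L, IsIso ((Functor.whiskerLeft (pushQ U.1.ι) s).app L) := fun L => hs U L
    exact NatIso.isIso_of_isIso_app _
  have i2 : IsIso ((show FQ (pushQ U.1.ι ⋙ F) ⟶ pushQ U.1.ι ⋙ FMQ p q K from
      Functor.whiskerLeft (pushQ U.1.ι) s) ≫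
        (dIso p q U.1.ι (p ∣_ U.1) ((p ⁻¹ᵁ U.1).ι ≫ q) (p ⁻¹ᵁ U.1).ι h2 rfl K hK).hom) :=
    IsIso.comp_isIso' i1 inferInstance
  have h3 := isFlatOver_aff (pushQ U.1.ι ⋙ F) (K355.isQCoh_pull (p ⁻¹ᵁ U.1).ι K hK)
    ((show FQ (pushQ U.1.ι ⋙ F) ⟶ pushQ U.1.ι ⋙ FMQ p q K from
      Functor.whiskerLeft (pushQ U.1.ι) s) ≫
        (dIso p q U.1.ι (p ∣_ U.1) ((p ⁻¹ᵁ U.1).ι ≫ q) (p ⁻¹ᵁ U.1).ι h2 rfl K hK).hom)
  have h4 := Groth.Agent.PerfC.RelFlat.isFlatOver_of_iso (p ∣_ U.1)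
    ((Scheme.Modules.restrictFunctorIsoPullback (p ⁻¹ᵁ U.1).ι).app K).symm h3 ⟨x, hxU⟩
  have h5 := (Groth.Agent.Ega3B.FlatRestrict.isFlatOverAt_restrict_iff p (p ∣_ U.1)
    (p ⁻¹ᵁ U.1).ι U.1.ι (morphismRestrict_ι p U.1).symm K ⟨x, hxU⟩).1 h4
  exact h5

end K350.Ker
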