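import Groth.Agent.FunMor.K350.Cmp
import Groth.Agent.EGA2.K32.GlueMod

/-!
# The kernel over an affine open

`IsUniv F O N t`: `N` is pushed forward from the open `O` of `P` and `t : F ⟶ FM p q N` is universal among natural
transformations to `FM p q E` with `E` pushed forward from `O`.
-/

set_option autoImplicit false
universe u v' u' v'' u'' v''' u'''
open CategoryTheory CategoryTheory.Limits AlgebraicGeometry MonoidalCategory

namespace K350.Ker

open Groth.Agent.FormalB.ModPow K350.WattsQ K350.Desc Groth.Agent.Models2.QCohPush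
open scoped Groth.Agent.Dcoh.MonCat

section Adj

variable {D : Type u'} [Category.{v'} D] {E : Type u''} [Category.{v''} E] {C : Type u'''}
  [Category.{v'''} C] {L : D ⥤ E} {R : E ⥤ D} (adj : L ⊣ R) {H₁ : D ⥤ C} {H₂ H₃ : E ⥤ C}

/-- Natural transformations out of a restricted functor. -/
def up (f : R ⋙ H₁ ⟶ H₂) : H₁ ⟶ L ⋙ H₂ where
  app M := H₁.map (adj.unit.app M) ≫ f.app (L.obj M)
  naturality M N g := by
    have h1 := f.naturality (L.map g)
    have h2 := adj.unit.naturality g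
    simp only [Functor.comp_map, Functor.id_map] at h1 h2 ⊢
    rw [← H₁.map_comp_assoc, h2, H₁.map_comp_assoc, h1, Category.assoc]

/-- The inverse of `up`. -/
def dn (g : H₁ ⟶ L ⋙ H₂) : R ⋙ H₁ ⟶ H₂ where
  app N := g.app (R.obj N) ≫ H₂.map (adj.counit.app N)
  naturality M N f := by
    have h1 := g.naturality (R.map f)
    have h2 := adj.counit.naturality f
    simp only [Functor.comp_map, Functor.id_map] at h1 h2 ⊢
    rw [← Category.assoc, h1, Category.assoc, ← H₂.map_comp, h2, H₂.map_comp, Category.assoc]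

theorem up_app (f : R ⋙ H₁ ⟶ H₂) (M : D) :
    (up adj f).app M = H₁.map (adj.unit.app M) ≫ f.app (L.obj M) := rfl

theorem dn_up (f : R ⋙ H₁ ⟶ H₂) : dn adj (up adj f) = f := by
  ext N
  have h1 : H₁.map (R.map (adj.counit.app N)) ≫ f.app N =
    f.app (L.obj (R.obj N)) ≫ H₂.map (adj.counit.app N) := f.naturality (adj.counit.app N)
  change (H₁.map (adj.unit.app (R.obj N)) ≫ f.app (L.obj (R.obj N))) ≫
    H₂.map (adj.counit.app N) = f.app N
  rw [Category.assoc, ← h1, ← H₁.map_comp_assoc, adj.right_triangle_components]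
  exact (congrArg (· ≫ f.app N) (H₁.map_id _)).trans (Category.id_comp _)

theorem up_dn (g : H₁ ⟶ L ⋙ H₂) : up adj (dn adj g) = g := by
  ext M
  have h1 : H₁.map (adj.unit.app M) ≫ g.app (R.obj (L.obj M)) =
    g.app M ≫ H₂.map (L.map (adj.unit.app M)) := g.naturality (adj.unit.app M)
  change H₁.map (adj.unit.app M) ≫ g.app (R.obj (L.obj M)) ≫
    H₂.map (adj.counit.app (L.obj M)) = g.app M
  rw [← Category.assoc, h1, Category.assoc, ← H₂.map_comp, adj.left_triangle_components]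
  exact (congrArg (g.app M ≫ ·) (H₂.map_id _)).trans (Category.comp_id _)

theorem up_comp (f : R ⋙ H₁ ⟶ H₂) (g : H₂ ⟶ H₃) :
    up adj (f ≫ g) = up adj f ≫ Functor.whiskerLeft L g := by
  ext M
  simp [up]

end Adj

variable {X Y P S : Scheme.{u}} (p : P ⟶ X) (q : P ⟶ Y) {a : X ⟶ S} {b : Y ⟶ S}

/-- `E` is the direct image of a quasi-coherent module on the open `O`. -/
def IsLoc (O : P.Opens) (E : P.Modules) : Prop :=
  ∃ E' : O.toScheme.Modules, Coh.IsQCoh E' ∧ Nonempty (E ≅ (Scheme.Modules.pushforward O.ι).obj E')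

/-- Universal natural transformation. -/
structure IsUniv (F : QCohCat.QCoh X ⥤ QCohCat.QCoh Y) (O : P.Opens) (N : P.Modules)
    (t : FQ F ⟶ FMQ p q N) : Prop where
  loc : IsLoc O N
  univ : ∀ E, IsLoc O E → ∀ s : FQ F ⟶ FMQ p q E, ∃! φ : N ⟶ E, t ≫ FMQmap p q φ = s

variable {p q}

theorem IsUniv.exists_hom {F : QCohCat.QCoh X ⥤ QCohCat.QCoh Y} {O : P.Opens} {N : P.Modules}
    {t : FQ F ⟶ FMQ p q N} (h : IsUniv p q F O N t) {E : P.Modules} (hE : IsLoc O E)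
    (s : FQ F ⟶ FMQ p q E) : ∃ φ : N ⟶ E, t ≫ FMQmap p q φ = s := (h.univ E hE s).exists

theorem IsUniv.hom_ext {F : QCohCat.QCoh X ⥤ QCohCat.QCoh Y} {O : P.Opens} {N : P.Modules}
    {t : FQ F ⟶ FMQ p q N} (h : IsUniv p q F O N t) {E : P.Modules} (hE : IsLoc O E)
    {φ ψ : N ⟶ E} (e : t ≫ FMQmap p q φ = t ≫ FMQmap p q ψ) : φ = ψ :=
  (h.univ E hE _).unique e rfl

instance isIso_FMQmap {E E' : P.Modules} (φ : E ⟶ E') [IsIso φ] :
    IsIso (FMQmap (X := X) p q φ) := by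
  refine ⟨FMQmap p q (inv φ), ?_, ?_⟩
  · rw [← FMQmap_comp, IsIso.hom_inv_id, FMQmap_id]
  · rw [← FMQmap_comp, IsIso.inv_hom_id, FMQmap_id]

theorem isIso_unit_pushQ (u : P ⟶ X) [IsOpenImmersion u] [QuasiCompact u] (L : QCohCat.QCoh P) :
    IsIso ((adjQ u).unit.app ((pushQ u).obj L)) := by
  have h1 : (pushQ u).Full := ⟨fun {M N} f => by
    obtain ⟨g, hg⟩ := (Scheme.Modules.pushforward u).map_surjective f.hom
    exact ⟨ObjectProperty.homMk g, ObjectProperty.hom_ext _ hg⟩⟩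
  have h2 : (pushQ u).Faithful := ⟨fun {M N} f g h => ObjectProperty.hom_ext _
    ((Scheme.Modules.pushforward u).map_injective (congrArg (·.hom) h))⟩
  have h3 : IsIso ((adjQ u).counit.app L) := inferInstance
  have h4 := (adjQ u).right_triangle_components L
  have h5 : IsIso ((pushQ u).map ((adjQ u).counit.app L)) := inferInstance
  have h6 : (adjQ u).unit.app ((pushQ u).obj L) = inv ((pushQ u).map ((adjQ u).counit.app L)) :=
    (IsIso.inv_eq_of_inv_hom_id h4).symm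
  rw [h6]
  infer_instance

/-- The kernel over an affine open with affine inclusion. -/
theorem exists_univ [IsAffine S] (sq : IsPullback p q a b)
    (F : QCohCat.QCoh X ⥤ QCohCat.QCoh Y) [F.Additive] [PreservesFiniteColimits F]
    [∀ J : Type u, PreservesColimitsOfShape (Discrete J) F] (hF : RLin a b F)
    (U : X.Opens) (hU : IsAffineOpen U) [IsAffineHom U.ι] :
    ∃ (N : P.Modules) (t : FQ F ⟶ FMQ p q N), IsUniv p q F (p ⁻¹ᵁ U) N t ∧
      ∀ L : QCohCat.QCoh U.toScheme, IsIso (t.app ((pushQ U.ι).obj L)) := by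
  have hUa : IsAffine U.toScheme := hU
  have hj : IsAffineHom (p ⁻¹ᵁ U).ι :=
    MorphismProperty.of_isPullback (isPullback_morphismRestrict p U) ‹_›
  have w : (p ⁻¹ᵁ U).ι ≫ p = (p ∣_ U) ≫ U.ι := (morphismRestrict_ι p U).symm
  have sqU : IsPullback (p ∣_ U) ((p ⁻¹ᵁ U).ι ≫ q) (U.ι ≫ a) b :=
    (isPullback_morphismRestrict p U).paste_vert sq
  let FU : QCohCat.QCoh U.toScheme ⥤ QCohCat.QCoh Y := pushQ U.ι ⋙ F
  have hpush : PreservesColimitsOfSize.{u, u} (pushQ U.ι) :=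
    ⟨fun {J} _ => K355.preservesColimits_pushQ_affine U.ι J⟩
  have hadd0 : (pushQ U.ι).Additive :=
    ⟨fun {M N f g} => ObjectProperty.hom_ext _ ((Scheme.Modules.pushforward U.ι).map_add)⟩
  have hadd : FU.Additive := inferInstance
  have hfc0 : PreservesFiniteColimits (pushQ U.ι) :=
    PreservesColimitsOfSize.preservesFiniteColimits _
  have hfc : PreservesFiniteColimits FU := comp_preservesFiniteColimits _ _
  have hcp : ∀ J : Type u, PreservesColimitsOfShape (Discrete J) FU := fun J => inferInstance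
  have hlin : RLin (U.ι ≫ a) b FU := by
    intro r L
    have h1 := hF r ((pushQ U.ι).obj L)
    have h2 : (pushQ U.ι).map (smQ L ((U.ι ≫ a).appTop.hom r)) =
        smQ ((pushQ U.ι).obj L) (a.appTop.hom r) := by
      refine ObjectProperty.hom_ext _ ?_
      have h3 := Groth.Agent.Ega1.PullFormal.pushforward_smulModΓ U.ι L.obj (a.appTop.hom r)
      have h4 : (U.ι ≫ a).appTop.hom r = U.ι.appTop.hom (a.appTop.hom r) := by
        rw [Scheme.Hom.comp_appTop]
        rfl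
      rw [h4]
      exact h3
    change (F.map ((pushQ U.ι).map (smQ L ((U.ι ≫ a).appTop.hom r)))).hom = _
    rw [h2]
    exact h1
  obtain ⟨T, hT, t, ht, huniv⟩ := exists_kernel_aff sqU FU hlin
  let adj := adjQ U.ι
  let c := fun (E : (p ⁻¹ᵁ U).toScheme.Modules) (hE : Coh.IsQCoh E) =>
    cIso p q (p ⁻¹ᵁ U).ι U.ι (p ∣_ U) w E hE
  let tU : FQ F ⟶ FMQ p q ((Scheme.Modules.pushforward (p ⁻¹ᵁ U).ι).obj T) :=
    up adj (show pushQ U.ι ⋙ FQ F ⟶ FMQ (p ∣_ U) ((p ⁻¹ᵁ U).ι ≫ q) T from t) ≫ (c T hT).inv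
  have key : ∀ (E : (p ⁻¹ᵁ U).toScheme.Modules) (hE : Coh.IsQCoh E) (φ : T ⟶ E)
      (s : FQ F ⟶ FMQ p q ((Scheme.Modules.pushforward (p ⁻¹ᵁ U).ι).obj E)),
      tU ≫ FMQmap p q ((Scheme.Modules.pushforward (p ⁻¹ᵁ U).ι).map φ) = s ↔
        t ≫ FMQmap (p ∣_ U) ((p ⁻¹ᵁ U).ι ≫ q) φ = dn adj (s ≫ (c E hE).hom) := by
    intro E hE φ s
    have h1 := cIso_nat p q (p ⁻¹ᵁ U).ι U.ι (p ∣_ U) w hT hE φ
    have h2 : tU ≫ FMQmap p q ((Scheme.Modules.pushforward (p ⁻¹ᵁ U).ι).map φ) =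
        up adj (show pushQ U.ι ⋙ FQ F ⟶ FMQ (p ∣_ U) ((p ⁻¹ᵁ U).ι ≫ q) E from
          t ≫ FMQmap (p ∣_ U) ((p ⁻¹ᵁ U).ι ≫ q) φ) ≫ (c E hE).inv := by
      have h3 := up_comp adj (show pushQ U.ι ⋙ FQ F ⟶ FMQ (p ∣_ U) ((p ⁻¹ᵁ U).ι ≫ q) T from t)
        (FMQmap (p ∣_ U) ((p ⁻¹ᵁ U).ι ≫ q) φ)
      rw [Iso.eq_comp_inv, Category.assoc, h1]
      change (up adj _ ≫ (c T hT).inv) ≫ (c T hT).hom ≫ _ = _
      rw [Category.assoc, Iso.inv_hom_id_assoc]
      exact h3.symm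
    rw [h2, Iso.comp_inv_eq]
    constructor
    · intro h
      rw [← h, dn_up]
    · intro h
      rw [h]
      exact up_dn adj _
  refine ⟨_, tU, ⟨⟨T, hT, ⟨Iso.refl _⟩⟩, ?_⟩, ?_⟩
  · rintro E ⟨E', hE', ⟨e⟩⟩ s
    obtain ⟨φ, hφ, hu⟩ := huniv E' (dn adj ((s ≫ FMQmap p q e.hom) ≫ (c E' hE').hom))
    have h1 := (key E' hE' φ (s ≫ FMQmap p q e.hom)).2 hφ
    refine ⟨(Scheme.Modules.pushforward (p ⁻¹ᵁ U).ι).map φ ≫ e.inv, ?_, fun ψ hψ => ?_⟩
    · dsimp only
      rw [FMQmap_comp, ← Category.assoc, h1, Category.assoc, ← FMQmap_comp, e.hom_inv_id,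
        FMQmap_id, Category.comp_id]
    · obtain ⟨φ', hφ'⟩ := (Scheme.Modules.pushforward (p ⁻¹ᵁ U).ι).map_surjective (ψ ≫ e.hom)
      have h2 : φ' = φ := hu φ' ((key E' hE' φ' (s ≫ FMQmap p q e.hom)).1 (by
        rw [hφ', FMQmap_comp, ← Category.assoc, hψ]))
      rw [← h2, hφ', Category.assoc, e.hom_inv_id, Category.comp_id]
  · intro L
    have h1 := isIso_unit_pushQ U.ι L
    have h2 : IsIso (t.app ((restrictQ U.ι).obj ((pushQ U.ι).obj L))) := inferInstance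
    have h3 : tU.app ((pushQ U.ι).obj L) = ((FQ F).map (adj.unit.app ((pushQ U.ι).obj L)) ≫
      t.app ((restrictQ U.ι).obj ((pushQ U.ι).obj L))) ≫ (c T hT).inv.app ((pushQ U.ι).obj L) := rfl
    rw [h3]
    infer_instance

end K350.Ker
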