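import Groth.Agent.FunMor.K350.KerGlue

/-!
# The kernel of a right exact functor
-/

set_option autoImplicit false
universe u
open CategoryTheory CategoryTheory.Limits AlgebraicGeometry MonoidalCategory

namespace K350.Ker

open Groth.Agent.FormalB.ModPow K350.WattsQ K350.Desc
open Groth.Agent.Models2.QCohPush Groth.Agent.EGA2.K32 Groth.Agent.Fdesc.LocGen
open scoped Groth.Agent.Dcoh.MonCat

section Refl

variable {O Y : Scheme.{u}}

/-- Direct image along an affine morphism reflects isomorphisms of quasi-coherent modules. -/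
theorem isIso_of_push (q : O ⟶ Y) [IsAffineHom q] {A B : O.Modules} (hA : Coh.IsQCoh A)
    (hB : Coh.IsQCoh B) (φ : A ⟶ B) (h : IsIso ((Coh.push q).map φ)) : IsIso φ := by
  have hA' : A.IsQuasicoherent := hA
  have hB' : B.IsQuasicoherent := hB
  refine Groth.Agent.CohqA.PullbackQCoh.isIso_of_bijective_affineCover φ
    (fun V : Y.affineOpens => q ⁻¹ᵁ V.1) ?_ (fun V => V.2.preimage q) (fun V => ?_)
  · refine eq_top_iff.2 fun x _ => ?_
    obtain ⟨_, ⟨W, hW, rfl⟩, hxW, -⟩ := Y.isBasis_affineOpens.exists_subset_of_mem_open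
      (Set.mem_univ (q x)) isOpen_univ
    exact TopologicalSpace.Opens.mem_iSup.2 ⟨⟨W, hW⟩, hxW⟩
  · have h1 : IsIso (((Coh.push q).map φ).app V.1) := inferInstance
    exact (ConcreteCategory.isIso_iff_bijective _).1 h1

end Refl

section PushQ

variable {X X' Y S : Scheme.{u}} (f : X' ⟶ X) [IsAffineHom f]

instance additive_pushQ : (pushQ f).Additive :=
  ⟨ObjectProperty.hom_ext _ ((Scheme.Modules.pushforward _).map_add)⟩

theorem preservesColimits_pushQ : PreservesColimitsOfSize.{u, u} (pushQ f) :=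
  ⟨fun {J} _ => K355.preservesColimits_pushQ_affine f J⟩

theorem preservesFiniteColimits_pushQ_comp (F : QCohCat.QCoh X ⥤ QCohCat.QCoh Y)
    [PreservesFiniteColimits F] : PreservesFiniteColimits (pushQ f ⋙ F) := by
  have := preservesColimits_pushQ f
  have hfc0 : PreservesFiniteColimits (pushQ f) :=
    PreservesColimitsOfSize.preservesFiniteColimits _
  exact comp_preservesFiniteColimits _ _

theorem preservesCoproducts_pushQ_comp (F : QCohCat.QCoh X ⥤ QCohCat.QCoh Y)
    (J : Type u) [PreservesColimitsOfShape (Discrete J) F] :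
    PreservesColimitsOfShape (Discrete J) (pushQ f ⋙ F) := by
  have := preservesColimits_pushQ f
  infer_instance

theorem rlin_pushQ {a : X ⟶ S} {b : Y ⟶ S} {F : QCohCat.QCoh X ⥤ QCohCat.QCoh Y}
    (hF : RLin a b F) : RLin (f ≫ a) b (pushQ f ⋙ F) := by
  intro r L
  have h1 := hF r ((pushQ f).obj L)
  have h2 : (pushQ f).map (smQ L ((f ≫ a).appTop.hom r)) =
      smQ ((pushQ f).obj L) (a.appTop.hom r) := by
    refine ObjectProperty.hom_ext _ ?_
    have h3 := Groth.Agent.Ega1.PullFormal.pushforward_smulModΓ f L.obj (a.appTop.hom r)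
    have h4 : (f ≫ a).appTop.hom r = f.appTop.hom (a.appTop.hom r) := by
      rw [Scheme.Hom.comp_appTop]
      rfl
    rw [h4]
    exact h3
  change (F.map ((pushQ f).map (smQ L ((f ≫ a).appTop.hom r)))).hom = _
  rw [h2]
  exact h1

end PushQ

variable {X Y P S : Scheme.{u}} {p : P ⟶ X} {q : P ⟶ Y} {a : X ⟶ S} {b : Y ⟶ S}

/-- A map to `FM p q K` which is an isomorphism at direct images from affine opens is one at direct images
from affine schemes. -/
theorem isIso_app_push [IsAffine S] (sq : IsPullback p q a b)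
    (F : QCohCat.QCoh X ⥤ QCohCat.QCoh Y) [F.Additive] [PreservesFiniteColimits F]
    [∀ J : Type u, PreservesColimitsOfShape (Discrete J) F] (hF : RLin a b F)
    [∀ U : X.affineOpens, IsAffineHom U.1.ι] {K : P.Modules} (hK : Coh.IsQCoh K)
    (s : FQ F ⟶ FMQ p q K)
    (hs : ∀ (U : X.affineOpens) (L : QCohCat.QCoh U.1.toScheme),
      IsIso (s.app ((pushQ U.1.ι).obj L)))
    {X' : Scheme.{u}} [IsAffine X'] (f : X' ⟶ X) [IsAffineHom f] (L : QCohCat.QCoh X') :
    IsIso (s.app ((pushQ f).obj L)) := by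
  let p' := pullback.fst f p
  let g := pullback.snd f p
  have h : IsPullback p' g f p := IsPullback.of_hasPullback f p
  have sq' : IsPullback p' (g ≫ q) (f ≫ a) b := by
    have := h.flip.paste_horiz sq.flip
    exact this.flip
  have hfc := preservesFiniteColimits_pushQ_comp f F
  have hcp := fun J => preservesCoproducts_pushQ_comp f F J
  obtain ⟨T, hT, t, ht, huniv⟩ := exists_kernel_aff sq' (pushQ f ⋙ F) (rlin_pushQ f hF)
  let d := dIso p q f p' (g ≫ q) g h rfl K hK
  let s' : FQ (pushQ f ⋙ F) ⟶ FMQ p' (g ≫ q) ((Scheme.Modules.pullback g).obj K) :=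
    Functor.whiskerLeft (pushQ f) s ≫ d.hom
  obtain ⟨φ, hφ, -⟩ := huniv _ s'
  have hgK : Coh.IsQCoh ((Scheme.Modules.pullback g).obj K) := K355.isQCoh_pull g K hK
  have hφi : IsIso φ := by
    refine isIso_of_isoOn (fun U : X.affineOpens => p' ⁻¹ᵁ (f ⁻¹ᵁ U.1)) (fun x => ?_) φ fun U => ?_
    · exact cover_dat (p' ≫ f) x
    · let U' : X'.Opens := f ⁻¹ᵁ U.1
      have hU' : IsAffineOpen U' := U.2.preimage f
      have hU'' : IsAffine U'.toScheme := hU'
      have hU3 : IsAffine U.1.toScheme := U.2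
      let O' : (pullback f p).Opens := p' ⁻¹ᵁ U'
      have h2 : IsPullback (p' ∣_ U') O'.ι U'.ι p' := isPullback_morphismRestrict p' U'
      have sq2 : IsPullback (p' ∣_ U') (O'.ι ≫ g ≫ q) (U'.ι ≫ f ≫ a) b :=
        (isPullback_morphismRestrict p' U').paste_vert sq'
      have hq2 : IsAffineHom (O'.ι ≫ g ≫ q) := MorphismProperty.of_isPullback sq2
        (inferInstance : IsAffineHom (U'.ι ≫ f ≫ a))
      have e : (pushQ f).obj ((pushQ U'.ι).obj (OQ U'.toScheme)) ≅
          (pushQ U.1.ι).obj ((pushQ (f ∣_ U.1)).obj (OQ U'.toScheme)) := by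
        refine (ObjectProperty.ι (QCohCat.isQCoh X)).preimageIso ?_
        exact (K355.pushIso U'.ι f _ rfl).app _ ≪≫
          ((K355.pushIso (f ∣_ U.1) U.1.ι _ (morphismRestrict_ι f U.1)).app _).symm
      have h3 : IsIso (s.app ((pushQ f).obj ((pushQ U'.ι).obj (OQ U'.toScheme)))) := by
        have h4 := hs U ((pushQ (f ∣_ U.1)).obj (OQ U'.toScheme))
        have h5 := s.naturality e.hom
        have h6 : IsIso (s.app _ ≫ (FMQ p q K).map e.hom) := by
          rw [← h5]
          infer_instance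
        exact IsIso.of_isIso_comp_right _ ((FMQ p q K).map e.hom)
      have h4 : IsIso (s'.app ((pushQ U'.ι).obj (OQ U'.toScheme))) := by
        have : s'.app ((pushQ U'.ι).obj (OQ U'.toScheme)) =
          s.app ((pushQ f).obj ((pushQ U'.ι).obj (OQ U'.toScheme))) ≫ d.hom.app _ := rfl
        rw [this]
        infer_instance
      have h5 : IsIso ((FMQmap p' (g ≫ q) φ).app ((pushQ U'.ι).obj (OQ U'.toScheme))) := by
        rw [← hφ, NatTrans.comp_app] at h4
        exact IsIso.of_isIso_comp_left (t.app _) _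
      have h6 := dIso_nat p' (g ≫ q) U'.ι (p' ∣_ U') (O'.ι ≫ g ≫ q) O'.ι h2 rfl hT hgK φ
      have h7 := congrArg (fun t => t.app (OQ U'.toScheme)) h6
      simp only [NatTrans.comp_app] at h7
      have h8 : IsIso ((Functor.whiskerLeft (pushQ U'.ι) (FMQmap p' (g ≫ q) φ)).app
        (OQ U'.toScheme)) := h5
      have h9 : IsIso ((FMQmap (p' ∣_ U') (O'.ι ≫ g ≫ q)
          ((Scheme.Modules.pullback O'.ι).map φ)).app (OQ U'.toScheme)) := by
        have h90 : IsIso ((dIso p' (g ≫ q) U'.ι (p' ∣_ U') (O'.ι ≫ g ≫ q) O'.ι h2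
          rfl T hT).hom.app (OQ U'.toScheme) ≫ (FMQmap (p' ∣_ U') (O'.ι ≫ g ≫ q)
          ((Scheme.Modules.pullback O'.ι).map φ)).app (OQ U'.toScheme)) := by
          rw [← h7]
          infer_instance
        exact IsIso.of_isIso_comp_left ((dIso p' (g ≫ q) U'.ι (p' ∣_ U') (O'.ι ≫ g ≫ q) O'.ι h2
          rfl T hT).hom.app (OQ U'.toScheme)) _
      have h10 := unitQ_naturality (p' ∣_ U') (O'.ι ≫ g ≫ q) ((Scheme.Modules.pullback O'.ι).map φ)
      have h11 : IsIso ((Coh.push (O'.ι ≫ g ≫ q)).map ((Scheme.Modules.pullback O'.ι).map φ)) := by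
        have h110 : IsIso ((unitQ (p' ∣_ U') (O'.ι ≫ g ≫ q) _).hom ≫
            (Coh.push (O'.ι ≫ g ≫ q)).map ((Scheme.Modules.pullback O'.ι).map φ)) := by
          rw [← h10]
          infer_instance
        exact IsIso.of_isIso_comp_left (unitQ (p' ∣_ U') (O'.ι ≫ g ≫ q) _).hom _
      have h12 : IsIso ((Scheme.Modules.pullback O'.ι).map φ) :=
        isIso_of_push _ (K355.isQCoh_pull _ _ hT) (K355.isQCoh_pull _ _ hgK) _ h11
      exact (isoOn_iff_pullback O' φ).2 h12
  have h13 : IsIso s' := by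
    rw [← hφ]
    infer_instance
  have h14 : IsIso (s'.app L) := inferInstance
  have h15 : s'.app L = s.app ((pushQ f).obj L) ≫ d.hom.app L := rfl
  rw [h15] at h14
  exact IsIso.of_isIso_comp_right _ (d.hom.app L)

/-- The kernel of a right exact functor. -/
theorem exists_kernel [IsAffine S] (sq : IsPullback p q a b)
    (F : QCohCat.QCoh X ⥤ QCohCat.QCoh Y) [F.Additive] [PreservesFiniteColimits F]
    [∀ J : Type u, PreservesColimitsOfShape (Discrete J) F] (hF : RLin a b F)
    [∀ U : X.affineOpens, IsAffineHom U.1.ι] :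
    ∃ (K : P.Modules) (_ : Coh.IsQCoh K) (s : FQ F ⟶ FMQ p q K),
      ∀ {X' : Scheme.{u}} [IsAffine X'] (f : X' ⟶ X) [IsAffineHom f] (L : QCohCat.QCoh X'),
        IsIso (s.app ((pushQ f).obj L)) := by
  have hj : ∀ U : X.affineOpens, IsAffineHom (p ⁻¹ᵁ U.1).ι := fun U =>
    MorphismProperty.of_isPullback (isPullback_morphismRestrict p U.1)
      (inferInstance : IsAffineHom U.1.ι)
  choose N t hN hiso using fun U : X.affineOpens => exists_univ sq F hF U.1 U.2
  obtain ⟨K, hK, s, g, hg, hs⟩ := exists_glued F N t hN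
  refine ⟨K, hK, s, fun {X'} _ f _ L => isIso_app_push sq F hF hK s (fun U L => ?_) f L⟩
  have h1 : IsIso ((s ≫ FMQmap p q (g U)).app ((pushQ U.1.ι).obj L)) := by
    rw [hs]
    exact hiso U L
  have h2 : IsPullback (p ∣_ U.1) (p ⁻¹ᵁ U.1).ι U.1.ι p := isPullback_morphismRestrict p U.1
  have h3 := dIso_nat p q U.1.ι (p ∣_ U.1) ((p ⁻¹ᵁ U.1).ι ≫ q) (p ⁻¹ᵁ U.1).ι h2 rfl hK
    (hN U).loc.isQCoh (g U)
  have h4 := congrArg (fun t => t.app L) h3
  simp only [NatTrans.comp_app] at h4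
  have h5 : IsIso ((Scheme.Modules.pullback (p ⁻¹ᵁ U.1).ι).map (g U)) :=
    (isoOn_iff_pullback _ _).1 (hg U)
  have h6 : IsIso ((Functor.whiskerLeft (pushQ U.1.ι) (FMQmap p q (g U))).app L) := by
    have h60 : IsIso ((Functor.whiskerLeft (pushQ U.1.ι) (FMQmap p q (g U))).app L ≫
        (dIso p q U.1.ι (p ∣_ U.1) ((p ⁻¹ᵁ U.1).ι ≫ q)
          (p ⁻¹ᵁ U.1).ι h2 rfl (N U) (hN U).loc.isQCoh).hom.app L) := by
      rw [h4]
      infer_instance
    exact IsIso.of_isIso_comp_right _ ((dIso p q U.1.ι (p ∣_ U.1) ((p ⁻¹ᵁ U.1).ι ≫ q)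
      (p ⁻¹ᵁ U.1).ι h2 rfl (N U) (hN U).loc.isQCoh).hom.app L)
  have h7 : IsIso ((FMQmap p q (g U)).app ((pushQ U.1.ι).obj L)) := h6
  rw [NatTrans.comp_app] at h1
  exact IsIso.of_isIso_comp_right _ ((FMQmap p q (g U)).app ((pushQ U.1.ι).obj L))

end K350.Ker
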