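import Mathlib.Algebra.Category.Ring.Constructions
import Mathlib.RingTheory.IsTensorProduct
import Groth.Agent.CohqA.BaseChangeMod

/-!
# Algebra for pushouts `C = A ⊗_R B`: generation, and modules with commuting actions
-/

set_option autoImplicit false
universe u
open CategoryTheory CategoryTheory.Limits

namespace K350.PO

open Groth.Agent.CohqA.BaseChangeMod

variable {R A B C : Type u} [CommRing R] [CommRing A] [CommRing B] [CommRing C]
  {rA : R →+* A} {rB : R →+* B} {cA : A →+* C} {cB : B →+* C}

theorem induction (h : IsPushout (CommRingCat.ofHom rA) (CommRingCat.ofHom rB)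
    (CommRingCat.ofHom cA) (CommRingCat.ofHom cB)) {P : C → Prop} (h0 : P 0)
    (hadd : ∀ x y, P x → P y → P (x + y)) (hmul : ∀ a b, P (cA a * cB b)) (c : C) : P c := by
  let _ := rA.toAlgebra
  let _ := rB.toAlgebra
  let _ := cA.toAlgebra
  let _ := cB.toAlgebra
  let _ := (cA.comp rA).toAlgebra
  have t1 : IsScalarTower R A C := .of_algebraMap_eq' rfl
  have t2 : IsScalarTower R B C := .of_algebraMap_eq' (congrArg CommRingCat.Hom.hom h.w)
  have h1 : Algebra.IsPushout R A B C := CommRingCat.isPushout_iff_isPushout.1 h
  let e := Algebra.IsPushout.equiv R A B C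
  rw [← e.apply_symm_apply c]
  induction e.symm c using TensorProduct.induction_on with
  | zero => rw [map_zero]; exact h0
  | tmul a b =>
    rw [Algebra.IsPushout.equiv_tmul]
    exact hmul a b
  | add x y hx hy => rw [map_add]; exact hadd _ _ hx hy

theorem exists_endLift (h : IsPushout (CommRingCat.ofHom rA) (CommRingCat.ofHom rB)
    (CommRingCat.ofHom cA) (CommRingCat.ofHom cB)) {N : Type u} [AddCommGroup N] [Module B N]
    (ρ : A →+* AddMonoid.End N) (hB : ∀ a (b : B) n, ρ a (b • n) = b • ρ a n)
    (hR : ∀ r n, ρ (rA r) n = rB r • n) :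
    ∃ θ : C →+* AddMonoid.End N, (∀ a, θ (cA a) = ρ a) ∧ ∀ b n, θ (cB b) n = b • n := by
  let _ := rA.toAlgebra
  let _ := rB.toAlgebra
  let _ := cA.toAlgebra
  let _ := cB.toAlgebra
  let _ := (cA.comp rA).toAlgebra
  have t1 : IsScalarTower R A C := .of_algebraMap_eq' rfl
  have t2 : IsScalarTower R B C := .of_algebraMap_eq' (congrArg CommRingCat.Hom.hom h.w)
  have h1 : Algebra.IsPushout R A B C := CommRingCat.isPushout_iff_isPushout.1 h
  let _ : Module R N := Module.compHom N rB
  have t3 : SMulCommClass R B N := ⟨fun r b n => by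
    change rB r • (b • n) = b • (rB r • n)
    rw [smul_smul, smul_smul, mul_comm]⟩
  have t4 : SMulCommClass B R N := SMulCommClass.symm _ _ _
  have t5 : IsScalarTower R B N := ⟨fun r b n => by
    change (rB r * b) • n = rB r • (b • n)
    rw [mul_smul]⟩
  let f : A →ₐ[R] Module.End B N :=
    { toFun := fun a => { toFun := fun n => ρ a n, map_add' := fun x y => map_add (ρ a) x y,
                          map_smul' := fun b n => hB a b n }
      map_one' := by ext n; exact congrArg (fun s : AddMonoid.End N => s n) ρ.map_one
      map_mul' := fun a a' => by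
        ext n; exact congrArg (fun s : AddMonoid.End N => s n) (ρ.map_mul a a')
      map_zero' := by ext n; exact congrArg (fun s : AddMonoid.End N => s n) ρ.map_zero
      map_add' := fun a a' => by
        ext n; exact congrArg (fun s : AddMonoid.End N => s n) (ρ.map_add a a')
      commutes' := fun r => by ext n; exact hR r n }
  let g : B →ₐ[R] Module.End B N := Algebra.lsmul R B N
  let d : C →ₐ[R] Module.End B N := Algebra.pushoutDesc C f g (fun a b => by
    ext n
    exact hB a b n)
  let t : Module.End B N →+* AddMonoid.End N :=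
    { toFun := fun s => s.toAddMonoidHom
      map_one' := rfl
      map_mul' := fun _ _ => rfl
      map_zero' := rfl
      map_add' := fun _ _ => rfl }
  refine ⟨t.comp d.toRingHom, fun a => ?_, fun b n => ?_⟩
  · have h2 : d (algebraMap A C a) = f a := Algebra.pushoutDesc_left C f g _ a
    exact congrArg t h2
  · have h2 : d (algebraMap B C b) = g b := Algebra.pushoutDesc_right C f g _ b
    exact congrArg (fun s : AddMonoid.End N => s n) (congrArg t h2)

/-- Induction on the elements of a base change. -/
theorem isBC_induction {A B : Type u} [CommRing A] [CommRing B] {φ : A →+* B} {M N : Type u}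
    [AddCommGroup M] [Module A M] [AddCommGroup N] [Module B N] {f : M →+ N} (h : IsBC φ f)
    {P : N → Prop} (h0 : P 0) (hadd : ∀ x y, P x → P y → P (x + y))
    (hmul : ∀ (b : B) (m : M), P (b • f m)) (n : N) : P n := by
  let _ := φ.toAlgebra
  let _ : Module A N := Module.compHom N φ
  have t1 : IsScalarTower A B N := ⟨fun a b n => by
    change (φ a * b) • n = φ a • (b • n)
    rw [mul_smul]⟩
  let f' : M →ₗ[A] N := { f with map_smul' := h.map_smul }
  have h1 : IsBaseChange B f' := (isBC_iff_isBaseChange f').1 h
  rw [← h1.equiv.apply_symm_apply n]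
  induction h1.equiv.symm n using TensorProduct.induction_on with
  | zero => rw [map_zero]; exact h0
  | tmul b m =>
    rw [IsBaseChange.equiv_tmul]
    exact hmul b m
  | add x y hx hy => rw [map_add]; exact hadd _ _ hx hy

end K350.PO
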