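import Groth.Agent.FunMor.K350.CohAsm2
import Groth.Agent.FunMor.K350.Push
import Groth.Agent.AbVar.K512.SkyHom

/-!
# Restriction of the kernel to closed subschemes of the source
-/

set_option autoImplicit false
universe u
open CategoryTheory CategoryTheory.Limits AlgebraicGeometry MonoidalCategory

namespace K350.Ker

open Groth.Agent.Models2.QCohPush K350.WattsQ

variable {X Y P T P' : Scheme.{u}} {p : P ⟶ X} {q : P ⟶ Y} {K : P.Modules}

/-- If the functor defined by the kernel `K` preserves epimorphisms, then `h_* g^* K` is a quotient of `q_* K` for every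
closed subscheme `T` of `X`, where `g : T ×_X P ⟶ P` and `h = g ≫ q`. -/
theorem exists_epi (F' : QCohCat.QCoh X ⥤ QCohCat.QCoh Y) [PreservesFiniteColimits F']
    (s : FQ F' ≅ FMQ p q K) (hK : Coh.IsQCoh K) (i : T ⟶ X) [IsClosedImmersion i] {p' : P' ⟶ T} {g : P' ⟶ P}
    (h : IsPullback p' g i p) :
    ∃ φ : (Coh.push q).obj K ⟶ (Coh.push (g ≫ q)).obj ((Scheme.Modules.pullback g).obj K), Epi φ := by
  let c : OQ X ⟶ (pushQ i).obj (OQ T) := ObjectProperty.homMk (ClSub.unitToPush i)
  have hc : Epi c := by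
    have h1 : Epi ((QCohCat.isQCoh X).ι.map c) := Groth.Agent.K512.SkyHom.epi_unitToPush i
    exact (QCohCat.isQCoh X).ι.epi_of_epi_map h1
  have h2 : Epi ((FMQ p q K).map c) := epi_FMQ F' s c hc
  let e1 := (dIso p q i p' (g ≫ q) g h rfl K hK).app (OQ T)
  let e2 := unitQ p' (g ≫ q) ((Scheme.Modules.pullback g).obj K)
  exact ⟨(unitQ p q K).inv ≫ (FMQ p q K).map c ≫ e1.hom ≫ e2.hom, inferInstance⟩

end K350.Ker
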