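import Groth.Agent.DEquiv.K352.SibPush
import Groth.Agent.S6711
import Groth.Agent.Sga67.ClosedPush
import Groth.Agent.LoccohB.AdStruct
import Groth.Agent.PerfB.ApproxSupp

/-!
# Finiteness of the support from acyclicity
-/

set_option autoImplicit false
universe u
open CategoryTheory CategoryTheory.Limits AlgebraicGeometry MonoidalCategory

namespace K350.SuppFin

open Groth.Agent Groth.Agent.FormalA.ProperOver

/-- A morphism locally of finite type to a Jacobson scheme with finite fibres over the closed points is locally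
quasi-finite. -/
theorem locallyQuasiFinite_of_closed {Z Y : Scheme.{u}} (f : Z ⟶ Y) [LocallyOfFiniteType f] [JacobsonSpace Y]
    (h : ∀ y : Y, IsClosed ({y} : Set Y) → (f ⁻¹' {y}).Finite) : LocallyQuasiFinite f := by
  rw [← Scheme.Hom.quasiFiniteLocus_eq_top_iff]
  by_contra hne
  have : JacobsonSpace Z := LocallyOfFiniteType.jacobsonSpace f
  obtain ⟨z, hz1, hz2⟩ : ((f.quasiFiniteLocus : Set Z)ᶜ ∩ closedPoints Z).Nonempty := by
    refine nonempty_inter_closedPoints ?_ f.quasiFiniteLocus.isOpen.isClosed_compl.isLocallyClosed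
    rw [Set.nonempty_compl]
    intro h1
    exact hne (SetLike.coe_injective h1)
  have hy := f.closePoints_subset_preimage_closedPoints hz2
  refine hz1 (Scheme.Hom.mem_quasiFiniteLocus.2 ?_)
  rw [Scheme.Hom.quasiFiniteAt_iff_isOpen_singleton_asFiber]
  have h2 : Finite (f ⁻¹' {f z}) := h (f z) hy
  have h3 : Finite (f.fiber (f z)) := Finite.of_equiv _ (f.fiberHomeo (f z)).symm.toEquiv
  have h4 : DiscreteTopology (f.fiber (f z)) := inferInstance
  exact isOpen_discrete _

/-- If `K` is coherent with support of finite fibres over `Y`, `q_* K` is coherent and `R^n q_* K = 0` for `n > 0`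
then the support of `K` is finite over `Y`. -/
theorem exists_isFinite {P Y : Scheme.{u}} [IsNoetherian P] [IsNoetherian Y] [HasInjectiveResolutions P.Modules]
    (q : P ⟶ Y) [LocallyOfFiniteType q] [IsSeparated q] (K : P.Modules) (hK : Coh.IsCoh K)
    [JacobsonSpace Y]
    (hqf : ∀ y : Y, IsClosed ({y} : Set Y) → (q ⁻¹' {y} ∩ CohB1.support K).Finite) (hpush : Coh.IsCoh ((Coh.push q).obj K))
    (hvan : ∀ n : ℕ, 0 < n → IsZero ((Coh.Rpush q n).obj K)) :
    ∃ hZ : IsClosed (CohB1.support K),
      IsFinite ((Scheme.IdealSheafData.vanishingIdeal ⟨CohB1.support K, hZ⟩).subschemeι ≫ q) := by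
  let J := FormalA.AnnIdeal.annIdeal K hK.1 hK.2
  let i : J.subscheme ⟶ P := J.subschemeι
  have hr : Set.range i = CohB1.support K := FormalA.AnnIdeal.range_subschemeι K hK.1 hK.2
  have hZ : IsClosed (CohB1.support K) := hr ▸ i.isClosedEmbedding.isClosed_range
  have hN : IsNoetherian J.subscheme := LoccohB.AdStruct.isNoetherian_of_finiteType i
  have hI := Dcoh.DerSch.hasInjectiveResolutions J.subscheme
  have hq : QuasiCompact q := inferInstance
  have h4 : LocallyQuasiFinite (i ≫ q) := by
    refine locallyQuasiFinite_of_closed _ fun y hy => ?_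
    refine Set.Finite.of_finite_image (f := i) ((hqf y hy).subset ?_) i.isClosedEmbedding.injective.injOn
    rintro _ ⟨t, ht, rfl⟩
    refine ⟨?_, hr ▸ ⟨t, rfl⟩⟩
    have h7 : (i ≫ q) t = y := ht
    rw [Scheme.Hom.comp_apply] at h7
    exact h7
  let e0 := FormalA.AnnIdeal.pushPullIso K hK.1 hK.2
  let KZ := (Scheme.Modules.pullback i).obj K
  have hKZ : Coh.IsCoh KZ := FormalB.PullCoh.isCoh_pullback i hK
  have hsupp : CohB1.support KZ = Set.univ := by
    have h1 : CohB1.support ((Scheme.Modules.pushforward i).obj KZ) = CohB1.support K :=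
      PerfB.ApproxSupp.support_iso e0
    rw [Sga67.ClosedPush.support_pushforward, ← hr, ← Set.image_univ] at h1
    exact Set.image_injective.2 i.isClosedEmbedding.injective h1
  have hfin : IsFinite (i ≫ q) := by
    refine S6711.result (i ≫ q) KZ hKZ hsupp ?_ fun n hn => ?_
    · refine PerfA.CohSerre.isCoh_of_iso ?_ hpush
      exact (Coh.push q).mapIso e0.symm
    · obtain ⟨e⟩ := FormalA.RpushFlasque.nonempty_rpush_comp_iso i q n KZ
      exact (hvan n hn).of_iso (e.symm ≪≫ (Coh.Rpush q n).mapIso e0)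
  obtain ⟨j, hj, _⟩ := exists_lift (CohB1.support K) hZ i hr.ge
  refine ⟨hZ, ?_⟩
  change IsFinite (redι _ hZ ≫ q)
  rw [← hj, Category.assoc]
  infer_instance

end K350.SuppFin
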