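import Groth.Agent.FunMor.K350.SuppFin
import Groth.Agent.FunMor.K350.SuppEpi
import Groth.Agent.QCohSub.K582.Support
import Groth.Agent.FunMor.K350.Cnt

/-!
# The support of the kernel is finite over the target
-/

set_option autoImplicit false
universe u
open CategoryTheory CategoryTheory.Limits AlgebraicGeometry MonoidalCategory

namespace K350.SuppFin

open Groth.Agent Groth.Agent.FormalA.ProperOver

section

variable {k : Type u} [Field k] {X Y P : Scheme.{u}} {a : X ⟶ Spec (.of k)} {b : Y ⟶ Spec (.of k)}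
  {p : P ⟶ X} {q : P ⟶ Y}

/-- A reduced finite closed subscheme of a scheme locally of finite type over a field is finite over the field. -/
theorem isFinite_redι [LocallyOfFiniteType a] (Z : Set X) (hZ : IsClosed Z) (hf : Z.Finite) :
    IsFinite (redι Z hZ ≫ a) := by
  have hT : Finite (redSub Z hZ) := by
    have h1 : (Set.range (redι Z hZ)).Finite := by rw [range_redι]; exact hf
    have := h1.to_subtype
    exact Finite.of_injective (Set.rangeFactorization (redι Z hZ))
      (Set.rangeFactorization_injective.2 (redι Z hZ).isClosedEmbedding.injective)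
  have h1 : LocallyQuasiFinite (redι Z hZ ≫ a) :=
    LocallyQuasiFinite.of_finite_preimage_singleton _ fun _ => Set.toFinite _
  have h2 : QuasiCompact (redι Z hZ ≫ a) := by
    have : CompactSpace (redSub Z hZ) := inferInstance
    infer_instance
  exact IsFinite.of_locallyQuasiFinite _

theorem card_le [LocallyOfFiniteType a] [LocallyOfFiniteType b] (sq : IsPullback p q a b) {K : P.Modules}
    (hK : Coh.IsCoh K) (hqK : Coh.IsQCoh ((Coh.push q).obj K))
    (hE : ∀ {T P' : Scheme.{u}} (i : T ⟶ X) [IsClosedImmersion i] (p' : P' ⟶ T) (g : P' ⟶ P),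
      IsPullback p' g i p → ∃ φ : (Coh.push q).obj K ⟶
        (Coh.push (g ≫ q)).obj ((Scheme.Modules.pullback g).obj K), Epi φ)
    {V : Y.Opens} (hV : IsAffineOpen V) (y : Y) (hy : IsClosed ({y} : Set Y)) (hyV : y ∈ V) (r : ℕ)
    (gen : Fin r → Γ((Coh.push q).obj K, V)) (hgen : Submodule.span Γ(Y, V) (Set.range gen) = ⊤)
    (S : Finset P) (hS : ∀ z ∈ S, IsClosed ({z} : Set P) ∧ q z = y ∧ z ∈ CohB1.support K) : S.card ≤ r := by
  have hXJ : JacobsonSpace X := LocallyOfFiniteType.jacobsonSpace a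
  have hp : LocallyOfFiniteType p := MorphismProperty.of_isPullback sq.flip ‹_›
  have hZ : IsClosed (p '' (S : Set P)) := by
    rw [← Set.biUnion_of_singleton (p '' (S : Set P))]
    refine (S.finite_toSet.image p).isClosed_biUnion ?_
    rintro _ ⟨z, hz, rfl⟩
    exact p.closePoints_subset_preimage_closedPoints (hS z hz).1
  have hfin := isFinite_redι (a := a) _ hZ (S.finite_toSet.image p)
  let i := redι (p '' (S : Set P)) hZ
  let g := pullback.snd i p
  have h1 : IsPullback (pullback.fst i p) g i p := IsPullback.of_hasPullback i p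
  have h2 : IsPullback (pullback.fst i p) (g ≫ q) (i ≫ a) b := h1.paste_vert sq
  have h3 : IsFinite (g ≫ q) := MorphismProperty.of_isPullback h2 hfin
  obtain ⟨φ, hφ⟩ := hE i _ g h1
  have hg : IsClosedImmersion g := MorphismProperty.of_isPullback h1 inferInstance
  have hK' := FormalB.PullCoh.isCoh_pullback g hK
  let K' := (Scheme.Modules.pullback g).obj K
  have hqK' : Coh.IsQCoh ((Coh.push (g ≫ q)).obj K') := Ega1.QcqsPush.isQCoh_pushforward (g ≫ q) _ hK'.1
  have hW : IsAffineOpen ((g ≫ q) ⁻¹ᵁ V) := hV.preimage (g ≫ q)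
  have hsurj : Function.Surjective (φ.app V) := PerfA.QCohEpi.app_surjective_of_epi φ hV
  -- the points
  have hex : ∀ z : S, ∃ t : ↥(pullback i p), g t = z.1 := by
    intro z
    have h4 : z.1 ∈ Set.range g := by
      rw [Scheme.Pullback.range_snd]
      change p z.1 ∈ Set.range (redι _ hZ)
      rw [range_redι]
      exact ⟨z.1, z.2, rfl⟩
    exact h4
  choose t ht using hex
  have hty : ∀ z : S, (g ≫ q) (t z) = y := by
    intro z
    rw [Scheme.Hom.comp_apply, ht z]
    exact (hS z.1 z.2).2.1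
  have htV : ∀ z : S, t z ∈ (g ≫ q) ⁻¹ᵁ V := fun z => by
    change (g ≫ q) (t z) ∈ V
    rw [hty z]
    exact hyV
  have htc : ∀ z : S, IsClosed ({t z} : Set ↥(pullback i p)) := by
    intro z
    have h5 : ({t z} : Set ↥(pullback i p)) = g ⁻¹' {z.1} := by
      ext w
      simp only [Set.mem_singleton_iff, Set.mem_preimage]
      constructor
      · rintro rfl
        exact ht z
      · intro hw
        exact g.isClosedEmbedding.injective (hw.trans (ht z).symm)
    rw [h5]
    exact (hS z.1 z.2).1.preimage g.continuous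
  let ψ : S → PrimeSpectrum Γ(pullback i p, (g ≫ q) ⁻¹ᵁ V) := fun z => hW.primeIdealOf ⟨t z, htV z⟩
  have hψ : Function.Injective ψ := by
    intro z w hzw
    have h6 : (⟨t z, htV z⟩ : ↥((g ≫ q) ⁻¹ᵁ V)) = ⟨t w, htV w⟩ :=
      hW.isoSpec.hom.homeomorph.injective hzw
    have h7 : t z = t w := congrArg Subtype.val h6
    exact Subtype.ext (by rw [← ht z, ← ht w, h7])
  classical
  have hcard : (Finset.univ.image ψ).card = S.card := by
    rw [Finset.card_image_of_injective _ hψ, Finset.card_univ, Fintype.card_coe]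
  rw [← hcard]
  have hm : (hV.primeIdealOf ⟨y, hyV⟩).asIdeal.IsMaximal := hV.primeIdealOf_isMaximal_of_isClosed _ hy
  algebraize [((g ≫ q).app V).hom]
  let iN : Module Γ(Y, V) Γ(K', (g ≫ q) ⁻¹ᵁ V) := Module.compHom _ ((g ≫ q).app V).hom
  have iT : IsScalarTower Γ(Y, V) Γ(pullback i p, (g ≫ q) ⁻¹ᵁ V) Γ(K', (g ≫ q) ⁻¹ᵁ V) :=
    IsScalarTower.of_algebraMap_smul fun _ _ => rfl
  have iF : Module.Finite Γ(pullback i p, (g ≫ q) ⁻¹ᵁ V) Γ(K', (g ≫ q) ⁻¹ᵁ V) := by
    have := hK'.1
    exact CohqB.FiniteType2.finite_sections_of_isFT K' hK'.2 hW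
  let φl : Γ((Coh.push q).obj K, V) →ₗ[Γ(Y, V)] Γ(K', (g ≫ q) ⁻¹ᵁ V) :=
    { toFun := φ.app V
      map_add' := map_add _
      map_smul' := fun c x => Scheme.Modules.Hom.app_smul φ c x }
  refine K350.Cnt.card_le (hV.primeIdealOf ⟨y, hyV⟩).asIdeal r gen hgen φl hsurj _ fun n hn => ?_
  obtain ⟨z, -, rfl⟩ := Finset.mem_image.1 hn
  refine ⟨hW.primeIdealOf_isMaximal_of_isClosed _ (htc z), ?_, ?_⟩
  · have h8 := congrArg PrimeSpectrum.asIdeal
      (IsAffineOpen.comap_primeIdealOf_appLE (f := g ≫ q) (x := t z) V hV ((g ≫ q) ⁻¹ᵁ V) hW le_rfl (htV z))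
    rw [Scheme.Hom.appLE_eq_app] at h8
    refine h8.trans ?_
    congr 2
    exact Subtype.ext (hty z)
  · rw [K582.Support.mem_support_iff_primeIdealOf K' hK'.1, Ega1.SuppTensorMod.mem_support_pullback g K hK.2, ht z]
    exact (hS z.1 z.2).2.2

/-- The fibres of the support of the kernel over closed points are finite. -/
theorem finite_fibre [LocallyOfFiniteType a] [LocallyOfFiniteType b] (sq : IsPullback p q a b) {K : P.Modules}
    (hK : Coh.IsCoh K) (hqK : Coh.IsCoh ((Coh.push q).obj K))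
    (hE : ∀ {T P' : Scheme.{u}} (i : T ⟶ X) [IsClosedImmersion i] (p' : P' ⟶ T) (g : P' ⟶ P),
      IsPullback p' g i p → ∃ φ : (Coh.push q).obj K ⟶
        (Coh.push (g ≫ q)).obj ((Scheme.Modules.pullback g).obj K), Epi φ)
    (y : Y) (hy : IsClosed ({y} : Set Y)) : (q ⁻¹' {y} ∩ CohB1.support K).Finite := by
  have hXJ : JacobsonSpace X := LocallyOfFiniteType.jacobsonSpace a
  have hp : LocallyOfFiniteType p := MorphismProperty.of_isPullback sq.flip ‹_›
  have hPJ : JacobsonSpace P := LocallyOfFiniteType.jacobsonSpace p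
  obtain ⟨V, hV, hyV, -⟩ := exists_isAffineOpen_mem_and_subset (x := y) (U := (⊤ : Y.Opens)) trivial
  have hfin : Module.Finite Γ(Y, V) Γ((Coh.push q).obj K, V) := by
    have := hqK.1
    exact CohqB.FiniteType2.finite_sections_of_isFT _ hqK.2 hV
  obtain ⟨r, gen, hgen⟩ := Module.Finite.exists_fin (R := Γ(Y, V)) (M := Γ((Coh.push q).obj K, V))
  have hC : (q ⁻¹' {y} ∩ CohB1.support K ∩ closedPoints P).Finite := by
    by_contra hinf
    obtain ⟨S, hS, hcard⟩ := Set.Infinite.exists_subset_card_eq hinf (r + 1)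
    have h1 := card_le sq hK hqK.1 hE hV y hy hyV r gen hgen S fun z hz =>
      ⟨(hS hz).2, (hS hz).1.1, (hS hz).1.2⟩
    omega
  have hW : IsClosed (q ⁻¹' {y} ∩ CohB1.support K) :=
    (hy.preimage q.continuous).inter (FormalA.Support.isClosed_support K hK.2)
  have hC' : IsClosed (q ⁻¹' {y} ∩ CohB1.support K ∩ closedPoints P) := by
    rw [← Set.biUnion_of_singleton (q ⁻¹' {y} ∩ CohB1.support K ∩ closedPoints P)]
    exact hC.isClosed_biUnion fun z hz => hz.2
  have h2 := JacobsonSpace.closure_inter_closedPoints_eq_closure (X := P)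
    (S := q ⁻¹' {y} ∩ CohB1.support K) hW.isLocallyClosed
  rw [hC'.closure_eq, hW.closure_eq] at h2
  rw [← h2]
  exact hC

end

end K350.SuppFin
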