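import Groth.Agent.FunMor.K355.ModWatts
import Groth.Agent.FunMor.K355.SecQ
import Groth.Prelude.Def_Coh
import Groth.Agent.PerfA.QCohSerre

/-!
# Natural transformations out of right exact functors preserving direct sums (Watts)

`C` a category with an equivalence `e : ModuleCat A ≌ C` and `P ≅ e A`; `F : C ⥤ B` additive, right exact and
preserving direct sums. Natural transformations `F ⟶ H` are determined by their component at `P`, every linear
morphism `F P ⟶ H P` extends. Applied to `C = QCoh X`, `X` affine, `P = O_X`.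
-/

set_option autoImplicit false
universe u v' u' v'' u''
open CategoryTheory CategoryTheory.Limits AlgebraicGeometry

namespace K350.WattsQ

section Mod

variable {A : Type u} [CommRing A] {B : Type u'} [Category.{v'} B] [Preadditive B]
variable (F : ModuleCat.{u} A ⥤ B) [F.Additive] [PreservesFiniteColimits F]
  [∀ J : Type u, PreservesColimitsOfShape (Discrete J) F]

theorem ptM_comp {M N : ModuleCat.{u} A} (x : M) (f : M ⟶ N) :
    K355.ptM x ≫ f = K355.ptM (f.hom x) := by
  ext
  simp [K355.ptM]

theorem ptM_add {M : ModuleCat.{u} A} (x y : M) : K355.ptM (x + y) = K355.ptM x + K355.ptM y := by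
  ext
  simp [K355.ptM]

theorem ptM_smul {M : ModuleCat.{u} A} (a : A) (x : M) :
    K355.ptM (a • x) = ModuleCat.ofHom (LinearMap.lsmul A A a) ≫ K355.ptM x := by
  ext
  simp [K355.ptM]

theorem ptM_one : K355.ptM (M := ModuleCat.of A A) (1 : A) = 𝟙 _ := by
  ext
  simp [K355.ptM]

include F in
theorem ext_mod {H : ModuleCat.{u} A ⥤ B} {t t' : F ⟶ H}
    (h : t.app (ModuleCat.of A A) = t'.app (ModuleCat.of A A)) : t = t' := by
  ext M
  have key := K355.existsUnique_desc_mod F M (Z := H.obj M) (fun x => F.map (K355.ptM x) ≫ t.app M)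
    (fun x y => by rw [ptM_add, F.map_add, Preadditive.add_comp])
    (fun a x => by rw [ptM_smul, F.map_comp, Category.assoc])
  refine key.unique (fun x => rfl) (fun x => ?_)
  rw [t'.naturality, t.naturality, h]

theorem exists_mod (H : ModuleCat.{u} A ⥤ B) [H.Additive]
    (ψ : F.obj (ModuleCat.of A A) ⟶ H.obj (ModuleCat.of A A))
    (hψ : ∀ a : A, F.map (ModuleCat.ofHom (LinearMap.lsmul A A a)) ≫ ψ =
      ψ ≫ H.map (ModuleCat.ofHom (LinearMap.lsmul A A a))) :
    ∃ t : F ⟶ H, t.app (ModuleCat.of A A) = ψ := by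
  have key := fun M : ModuleCat.{u} A => K355.existsUnique_desc_mod F M (Z := H.obj M)
    (fun x => ψ ≫ H.map (K355.ptM x))
    (fun x y => by rw [ptM_add, H.map_add, Preadditive.comp_add])
    (fun a x => by rw [ptM_smul, H.map_comp, ← Category.assoc, ← Category.assoc, hψ])
  choose t ht hu using key
  refine ⟨⟨t, fun M N f => ?_⟩, ?_⟩
  · have k2 := K355.existsUnique_desc_mod F M (Z := H.obj N)
      (fun x => ψ ≫ H.map (K355.ptM (f.hom x)))
      (fun x y => by rw [map_add, ptM_add, H.map_add, Preadditive.comp_add])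
      (fun a x => by rw [map_smul, ptM_smul, H.map_comp, ← Category.assoc, ← Category.assoc, hψ])
    refine k2.unique (fun x => ?_) (fun x => ?_)
    · have h1 := ht N (f.hom x)
      rw [← h1, ← Category.assoc, ← F.map_comp, ptM_comp]
    · have h1 := ht M x
      rw [← Category.assoc, h1, Category.assoc, ← H.map_comp, ptM_comp]
  · have h1 := ht (ModuleCat.of A A) (1 : A)
    rw [ptM_one, F.map_id, H.map_id, Category.id_comp, Category.comp_id] at h1
    exact h1

end Mod

section Gen

variable {A : Type u} [CommRing A] {C : Type u''} [Category.{v''} C] [Preadditive C]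
  (e : ModuleCat.{u} A ≌ C) [e.functor.Additive] {P : C} (i : e.functor.obj (ModuleCat.of A A) ≅ P)
  {B : Type u'} [Category.{v'} B] [Preadditive B]
  (F : C ⥤ B) [F.Additive] [PreservesFiniteColimits F]
  [∀ J : Type u, PreservesColimitsOfShape (Discrete J) F]

include i in
theorem ext_gen {H : C ⥤ B} {t t' : F ⟶ H} (h : t.app P = t'.app P) : t = t' := by
  have h1 : t.app (e.functor.obj (ModuleCat.of A A)) = t'.app (e.functor.obj (ModuleCat.of A A)) := by
    have h2 : IsIso (H.map i.hom) := inferInstance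
    rw [← cancel_mono (H.map i.hom), ← t.naturality, ← t'.naturality, h]
  have : PreservesFiniteColimits (e.functor ⋙ F) := comp_preservesFiniteColimits _ _
  have h3 : Functor.whiskerLeft e.functor t = Functor.whiskerLeft e.functor t' :=
    ext_mod (e.functor ⋙ F) h1
  ext M
  have h4 := congrArg (fun s => s.app (e.inverse.obj M)) h3
  dsimp at h4
  have h5 := t.naturality (e.counit.app M)
  have h6 := t'.naturality (e.counit.app M)
  dsimp at h5 h6
  rw [← cancel_epi (F.map (e.counit.app M)), h5, h6, h4]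

include i in
theorem exists_gen (H : C ⥤ B) [H.Additive] (ψ : F.obj P ⟶ H.obj P)
    (hψ : ∀ a : P ⟶ P, F.map a ≫ ψ = ψ ≫ H.map a) : ∃ t : F ⟶ H, t.app P = ψ := by
  have : PreservesFiniteColimits (e.functor ⋙ F) := comp_preservesFiniteColimits _ _
  obtain ⟨t, ht⟩ := exists_mod (e.functor ⋙ F) (e.functor ⋙ H)
    (F.map i.hom ≫ ψ ≫ H.map i.inv) (fun a => by
      have h1 := hψ (i.inv ≫ e.functor.map (ModuleCat.ofHom (LinearMap.lsmul A A a)) ≫ i.hom)
      simp only [Functor.map_comp, Category.assoc] at h1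
      have h2 := congrArg (fun f => F.map i.hom ≫ f ≫ H.map i.inv) h1
      simp only [Category.assoc, ← Functor.map_comp_assoc, ← Functor.map_comp, Iso.hom_inv_id,
        Iso.hom_inv_id_assoc] at h2
      simp only [Functor.comp_map, Category.assoc]
      simp only [← Functor.map_comp_assoc, ← Functor.map_comp] at h2 ⊢
      simpa using h2)
  let s : F ⟶ H :=
    { app := fun M => F.map (e.counitInv.app M) ≫ t.app (e.inverse.obj M) ≫ H.map (e.counit.app M)
      naturality := fun M N f => by
        have h1 := t.naturality (e.inverse.map f)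
        dsimp at h1
        have h2 := e.counitInv.naturality f
        have h3 := e.counit.naturality f
        dsimp at h2 h3
        rw [← F.map_comp_assoc, h2, F.map_comp_assoc, reassoc_of% h1, ← H.map_comp, h3, H.map_comp]
        simp only [Category.assoc] }
  have hs : ∀ M : ModuleCat.{u} A, s.app (e.functor.obj M) = t.app M := by
    intro M
    change F.map (e.counitInv.app (e.functor.obj M)) ≫ t.app (e.inverse.obj (e.functor.obj M)) ≫
      H.map (e.counit.app (e.functor.obj M)) = t.app M
    have h1 : e.counitInv.app (e.functor.obj M) = e.functor.map (e.unit.app M) :=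
      e.counitInv_app_functor M
    have h2 := t.naturality (e.unit.app M)
    dsimp at h2
    rw [h1, reassoc_of% h2, ← H.map_comp]
    have h3 : e.functor.map (e.unit.app M) ≫ e.counit.app (e.functor.obj M) = 𝟙 _ :=
      e.functor_unit_comp M
    rw [h3]
    exact (congrArg (t.app M ≫ ·) (H.map_id _)).trans (Category.comp_id _)
  refine ⟨s, ?_⟩
  have h1 := s.naturality i.hom
  rw [hs, ht] at h1
  rw [← cancel_epi (F.map i.hom), h1]
  simp only [Category.assoc, ← H.map_comp, Iso.inv_hom_id, H.map_id, Category.comp_id]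

include i in
theorem isIso_gen (H : C ⥤ B) [H.Additive] [PreservesFiniteColimits H]
    [∀ J : Type u, PreservesColimitsOfShape (Discrete J) H] (t : F ⟶ H) [IsIso (t.app P)] :
    IsIso t := by
  obtain ⟨s, hs⟩ := exists_gen e i H F (inv (t.app P)) (fun a => by
    rw [IsIso.comp_inv_eq, Category.assoc, t.naturality, IsIso.inv_hom_id_assoc])
  refine ⟨s, ?_, ?_⟩
  · refine ext_gen e i F ?_
    rw [NatTrans.comp_app, hs, IsIso.hom_inv_id, NatTrans.id_app]
  · refine ext_gen e i H ?_
    rw [NatTrans.comp_app, hs, IsIso.inv_hom_id, NatTrans.id_app]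

end Gen

section QCoh

open Groth.Agent.Models2.QCohPush

variable (X : Scheme.{u})

/-- `O_X` as a quasi-coherent module. -/
noncomputable def OQ : QCohCat.QCoh X :=
  ⟨Coh.structureModule X, Groth.Agent.PerfA.QCohSerre.isQCoh_unit X⟩

theorem isIso_unit_of_iso {X Y : Scheme.{u}} (f : X ⟶ Y) [IsIso f] (N : Y.Modules) :
    IsIso ((Scheme.Modules.restrictAdjunction f).unit.app N) := by
  rw [Scheme.Modules.Hom.isIso_iff_isIso_app]
  intro U
  rw [Scheme.Modules.restrictAdjunction_unit_app_app]
  have h2 : f ''ᵁ f ⁻¹ᵁ U = U := by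
    rw [Scheme.Hom.image_preimage_eq_opensRange_inf, Scheme.Hom.opensRange_of_isIso, top_inf_eq]
  have : IsIso (homOfLE (f.image_preimage_le U)) :=
    ⟨homOfLE h2.ge, Subsingleton.elim _ _, Subsingleton.elim _ _⟩
  exact Functor.map_isIso N.presheaf _

variable [IsAffine X]

theorem isEquivalence_pushQ : (pushQ X.isoSpec.hom).IsEquivalence where
  full := ⟨fun {M N} f => by
    obtain ⟨g, hg⟩ := (Scheme.Modules.pushforward X.isoSpec.hom).map_surjective f.hom
    exact ⟨ObjectProperty.homMk g, ObjectProperty.hom_ext _ hg⟩⟩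
  faithful := ⟨fun {M N} f g h => ObjectProperty.hom_ext _
    ((Scheme.Modules.pushforward X.isoSpec.hom).map_injective (congrArg (·.hom) h))⟩
  essSurj := ⟨fun N => ⟨(restrictQ X.isoSpec.hom).obj N, by
    have h1 := isIso_unit_of_iso X.isoSpec.hom N.obj
    let e : N ≅ (pushQ X.isoSpec.hom).obj ((restrictQ X.isoSpec.hom).obj N) :=
      ObjectProperty.isoMk _ (@asIso _ _ _ _ _ h1)
    exact ⟨e.symm⟩⟩⟩

/-- `QCoh X` is the category of `Γ(X, O_X)`-modules. -/
noncomputable def affQ : ModuleCat.{u} Γ(X, ⊤) ≌ QCohCat.QCoh X :=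
  haveI := isEquivalence_pushQ X
  (tildeQ Γ(X, ⊤)).trans (pushQ X.isoSpec.hom).asEquivalence.symm

instance affQ_additive : (affQ X).functor.Additive :=
  haveI := preservesBinaryBiproducts_of_preservesBinaryCoproducts (affQ X).functor
  Functor.additive_of_preservesBinaryBiproducts _

/-- `pushforward` of `O_X` along `X ≅ Spec Γ(X, O_X)`. -/
noncomputable def pushOIso : (tildeQ Γ(X, ⊤)).functor.obj (ModuleCat.of Γ(X, ⊤) Γ(X, ⊤)) ≅
    (pushQ X.isoSpec.hom).obj (OQ X) :=
  haveI := isIso_unit_of_iso X.isoSpec.hom (Coh.structureModule (Spec Γ(X, ⊤)))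
  ObjectProperty.isoMk _ (tildeSelf ≪≫ asIso ((Scheme.Modules.restrictAdjunction
    X.isoSpec.hom).unit.app (Coh.structureModule (Spec Γ(X, ⊤)))) ≪≫
      (Scheme.Modules.pushforward X.isoSpec.hom).mapIso
        (Scheme.Modules.restrictUnitIso X.isoSpec.hom))

/-- The free module of rank one corresponds to `O_X`. -/
noncomputable def affQIso : (affQ X).functor.obj (ModuleCat.of Γ(X, ⊤) Γ(X, ⊤)) ≅ OQ X :=
  haveI := isEquivalence_pushQ X
  (pushQ X.isoSpec.hom).asEquivalence.inverse.mapIso (pushOIso X) ≪≫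
    ((pushQ X.isoSpec.hom).asEquivalence.unitIso.app (OQ X)).symm

variable {B : Type u'} [Category.{v'} B] [Preadditive B]
  (F : QCohCat.QCoh X ⥤ B) [F.Additive] [PreservesFiniteColimits F]
  [∀ J : Type u, PreservesColimitsOfShape (Discrete J) F]

theorem ext_aff {H : QCohCat.QCoh X ⥤ B} {t t' : F ⟶ H} (h : t.app (OQ X) = t'.app (OQ X)) :
    t = t' := ext_gen (affQ X) (affQIso X) F h

theorem exists_aff (H : QCohCat.QCoh X ⥤ B) [H.Additive] (ψ : F.obj (OQ X) ⟶ H.obj (OQ X))
    (hψ : ∀ a : OQ X ⟶ OQ X, F.map a ≫ ψ = ψ ≫ H.map a) : ∃ t : F ⟶ H, t.app (OQ X) = ψ :=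
  exists_gen (affQ X) (affQIso X) F H ψ hψ

theorem isIso_aff (H : QCohCat.QCoh X ⥤ B) [H.Additive] [PreservesFiniteColimits H]
    [∀ J : Type u, PreservesColimitsOfShape (Discrete J) H] (t : F ⟶ H) [IsIso (t.app (OQ X))] :
    IsIso t := isIso_gen (affQ X) (affQIso X) F H t

end QCoh

end K350.WattsQ
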